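import Cfsg.Agent.Lib.Small.Generation.SpThree.FrameBig

/-!
Over the field of two elements, `u` and its conjugate by `J` generate together with the transvection
at the first basis vector.
-/

set_option autoImplicit false
set_option linter.unusedSectionVars false

namespace Cfsg.Agent.Small.Generation.SpThree

open Matrix PSpn
open Cfsg.Agent.Small (spHom jordanGL shiftMat)

variable {F : Type*} [Field F] {n : ℕ}

theorem binary [Fintype F] (htwo : ∀ x : F, x = 0 ∨ x = 1) (hn : 2 ≤ n) (h3 : 3 ≤ n)
    (G : Subgroup (Matrix.symplecticGroup (Fin n) F)) (hu : uu F hn ∈ G)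
    (hv : jG * uu F hn * jG⁻¹ ∈ G) (hT : Ctr G (Pi.single (.inl (i0 hn)) 1)) : G = ⊤ := by
  classical
  have h2 : ∀ x : F, x + x = 0 := by
    have h11 : (1 : F) + 1 = 0 := (htwo _).resolve_right (by simp)
    intro x
    rw [← two_mul, ← one_add_one_eq_two, h11, zero_mul]
  have hneg : ∀ x : F, -x = x := fun x => neg_eq_of_add_eq_zero_left (h2 x)
  have hnegv : ∀ x : Fin n → F, -x = x := fun x => funext fun i => hneg (x i)
  set A := (jordanGL n F : Matrix (Fin n) (Fin n) F) with hA
  set B := (((jordanGL n F)⁻¹ : GL (Fin n) F) : Matrix (Fin n) (Fin n) F) with hB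
  set l := il hn with hl
  have hl' : (l : ℕ) = n - 1 := rfl
  have hS : ∀ b : Fin n → F, Matrix.single l l (1 : F) *ᵥ b = Pi.single l (b l) := by
    intro b; funext i
    simp [Matrix.mulVec, dotProduct, Matrix.single_apply, Pi.single_apply, eq_comm, ite_and]
  have actu : ∀ a b : Fin n → F,
      act (uu F hn) (Sum.elim a b) = Sum.elim (A *ᵥ (a + Pi.single l (b l))) (Bᵀ *ᵥ b) := by
    intro a b
    rw [uu, act_mul, sigL, act_sigG, act_spHom, hS]
  have actv : ∀ a b : Fin n → F, act (jG * uu F hn * jG⁻¹)⁻¹ (Sum.elim a b) =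
      Sum.elim (Aᵀ *ᵥ a) (B *ᵥ b + Pi.single l ((Aᵀ *ᵥ a) l)) := by
    intro a b
    apply act_injective (jG * uu F hn * jG⁻¹)
    rw [act_act_inv, act_mul, act_mul]
    have hj : ∀ a b : Fin n → F,
        act (jG⁻¹ : Matrix.symplecticGroup (Fin n) F) (Sum.elim a b) = Sum.elim b a := by
      intro a b
      apply act_injective jG
      rw [act_act_inv, act_jG, hnegv]
    rw [hj, actu, act_jG, hnegv, Matrix.mulVec_mulVec, ← Matrix.transpose_mul, Units.mul_inv,
      Matrix.transpose_one, Matrix.one_mulVec]
    congr 1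
    rw [add_assoc, ← Pi.single_add, h2, Pi.single_zero, add_zero, Matrix.mulVec_mulVec,
      Units.mul_inv, Matrix.one_mulVec]
  have hAe : ∀ (x : Fin n → F) (i : Fin n),
      (A *ᵥ x) i = x i + if h : (i : ℕ) + 1 < n then x ⟨(i : ℕ) + 1, h⟩ else 0 := by
    intro x i
    rw [hA, jordan_val, Matrix.add_mulVec, Matrix.one_mulVec, Pi.add_apply, shift_mulVec]
  have hAt : ∀ (x : Fin n → F) (i : Fin n),
      (Aᵀ *ᵥ x) i = x i + if 1 ≤ (i : ℕ) then x ⟨(i : ℕ) - 1, by omega⟩ else 0 := by
    intro x i
    rw [hA, jordan_val, Matrix.transpose_add, Matrix.transpose_one, Matrix.add_mulVec,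
      Matrix.one_mulVec, Pi.add_apply, shiftT_mulVec]
  -- transfer of centres
  have hU : ∀ a b : Fin n → F, Ctr G (Sum.elim a b) →
      Ctr G (Sum.elim (A *ᵥ (a + Pi.single l (b l))) (Bᵀ *ᵥ b)) := fun a b h => by
    rw [← actu]; exact h.act hu
  have hV : ∀ a b : Fin n → F, Ctr G (Sum.elim a b) →
      Ctr G (Sum.elim (Aᵀ *ᵥ a) (B *ᵥ b + Pi.single l ((Aᵀ *ᵥ a) l))) := fun a b h => by
    rw [← actv]; exact h.act (inv_mem hv)
  have hadd : ∀ a b a' b' : Fin n → F, Ctr G (Sum.elim a b) → Ctr G (Sum.elim a' b') →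
      b ⬝ᵥ a' - a ⬝ᵥ b' ≠ 0 → Ctr G (Sum.elim (a + a') (b + b')) := by
    intro a b a' b' h h' hne
    have := h.pair h' (by rwa [sf_elim]) 1
    rwa [one_smul, elim_add] at this
  -- prefix sums
  let pre : (Fin n → F) → ℕ → F := fun a k =>
    ∑ i ∈ Finset.univ.filter (fun i : Fin n => (i : ℕ) ≤ k), a i
  have hpre : ∀ (a : Fin n → F) (i : Fin n), 1 ≤ (i : ℕ) →
      pre a i = a i + pre a ((i : ℕ) - 1) := by
    intro a i hi
    simp only [pre]
    rw [show Finset.univ.filter (fun j : Fin n => (j : ℕ) ≤ i) =
      insert i (Finset.univ.filter (fun j : Fin n => (j : ℕ) ≤ (i : ℕ) - 1)) by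
        ext j
        simp only [Finset.mem_filter, Finset.mem_univ, true_and, Finset.mem_insert, Fin.ext_iff]
        omega, Finset.sum_insert (by simp; omega)]
  have hpre0 : ∀ a : Fin n → F, pre a (i0 hn) = a (i0 hn) := by
    intro a
    simp only [pre]
    rw [show Finset.univ.filter (fun j : Fin n => (j : ℕ) ≤ (i0 hn : Fin n)) = {i0 hn} by
      ext j; simp [Fin.ext_iff], Finset.sum_singleton]
  -- the vector whose image under `Aᵀ` is a given one
  have hpull : ∀ a : Fin n → F, Aᵀ *ᵥ (fun i : Fin n => pre a i) = a := by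
    intro a; funext i
    rw [hAt]
    rcases Nat.eq_zero_or_pos (i : ℕ) with h | h
    · rw [if_neg (by omega), add_zero, show i = i0 hn from Fin.ext (by simpa using h)]
      exact hpre0 a
    · rw [if_pos (by omega), hpre a i h, add_assoc]
      simp only
      rw [h2, add_zero]
  have hBT : ∀ y, A *ᵥ (B *ᵥ y) = y := fun y => by
    rw [Matrix.mulVec_mulVec, Units.mul_inv, Matrix.one_mulVec]
  -- vectors supported below the last index
  have hlow : ∀ k : ℕ, k + 1 < n → ∀ a : Fin n → F, (∀ i : Fin n, k < (i : ℕ) → a i = 0) →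
      Ctr G (Sum.elim a 0) := by
    intro k
    induction k with
    | zero =>
      intro _ a ha
      have hs : (Sum.elim a 0 : Fin n ⊕ Fin n → F) =
          a (i0 hn) • Pi.single (.inl (i0 hn)) 1 := by
        rw [single_inl_eq]
        congr 1
        funext i
        rcases eq_or_ne i (i0 hn) with rfl | h
        · rw [Pi.single_eq_same]
        · rw [Pi.single_eq_of_ne h]
          exact ha i (Nat.pos_of_ne_zero fun h' => h (Fin.ext h'))
      rw [hs]; exact hT.smul _
    | succ k ih =>
      intro hk a ha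
      set t : Fin n := ⟨k + 1, by omega⟩ with ht
      by_cases hat : a t = 0
      · refine ih (by omega) a fun i hi => ?_
        rcases eq_or_ne i t with rfl | h
        · exact hat
        · exact ha i (by have := Fin.val_ne_of_ne h; simp [ht] at this; omega)
      -- even weight vectors come from the previous layer
      have heven : ∀ a : Fin n → F, (∀ i : Fin n, k + 1 < (i : ℕ) → a i = 0) →
          pre a (k + 1) = 0 → Ctr G (Sum.elim a 0) := by
        intro a ha hp
        have hb : ∀ i : Fin n, k < (i : ℕ) → pre a i = 0 := by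
          intro i hi
          rw [← hp]
          simp only [pre]
          symm
          refine Finset.sum_subset (fun j hj => ?_) fun j hj hj' => ?_
          · simp only [Finset.mem_filter, Finset.mem_univ, true_and] at hj ⊢
            omega
          · simp only [Finset.mem_filter, Finset.mem_univ, true_and] at hj hj'
            exact ha j (by omega)
        have h1 := hV _ _ (ih (by omega) (fun i : Fin n => pre a i) hb)
        rwa [hpull, Matrix.mulVec_zero, zero_add, ha l (by omega), Pi.single_zero] at h1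
      -- otherwise some power of `A` makes the weight even
      have hpow : ∀ (j : ℕ) (a : Fin n → F), (∀ i : Fin n, k + 1 < (i : ℕ) → a i = 0) →
          (∀ i : Fin n, k + 1 < (i : ℕ) → ((A ^ j) *ᵥ a) i = 0) := by
        intro j a ha
        induction j with
        | zero => simpa using ha
        | succ j ihj =>
          intro i hi
          rw [pow_succ', ← Matrix.mulVec_mulVec, hAe, ihj i hi, zero_add]
          split_ifs with h
          · exact ihj _ (by simp; omega)
          · rfl
      have hback : ∀ j : ℕ, Ctr G (Sum.elim ((A ^ j) *ᵥ a) 0) → Ctr G (Sum.elim a 0) := by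
        intro j
        induction j with
        | zero => simp
        | succ j ihj =>
          intro hj
          refine ihj ?_
          have h1 := hj.act (inv_mem hu)
          convert h1 using 1
          apply act_injective (uu F hn)
          rw [act_act_inv, actu, pow_succ', ← Matrix.mulVec_mulVec]
          simp
      by_contra hcon
      have hone : ∀ j : ℕ, pre ((A ^ j) *ᵥ a) (k + 1) = 1 := fun j =>
        (htwo _).resolve_left fun h => hcon (hback j (heven _ (hpow j a ha) h))
      -- `pre (A y) (k+1) = y 0` for `y` supported up to `k+1`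
      have hfirst : ∀ y : Fin n → F, (∀ i : Fin n, k + 1 < (i : ℕ) → y i = 0) →
          ∀ i : Fin n, (i : ℕ) ≤ k + 1 → pre (A *ᵥ y) i =
            y (i0 hn) + if h : (i : ℕ) + 1 < n then y ⟨(i : ℕ) + 1, h⟩ else 0 := by
        intro y hy i
        obtain ⟨i, hi⟩ := i
        induction i with
        | zero =>
          intro _
          rw [show (⟨0, hi⟩ : Fin n) = i0 hn from rfl, hpre0, hAe]
        | succ i ihi =>
          intro hik
          rw [hpre _ ⟨i + 1, hi⟩ (by simp), hAe]
          have := ihi (by omega) (by simp only at hik ⊢; omega)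
          simp only [Nat.add_sub_cancel] at this ⊢
          rw [this, dif_pos (show i + 1 < n from hi)]
          linear_combination h2 (y ⟨i + 1, hi⟩)
      have hz : ∀ j : ℕ, ((A ^ j) *ᵥ a) (i0 hn) = 1 := by
        intro j
        have h1 := hfirst _ (hpow j a ha) t le_rfl
        rw [Matrix.mulVec_mulVec, ← pow_succ', show ((t : Fin n) : ℕ) = k + 1 from rfl, hone] at h1
        rw [dif_pos hk, hpow j a ha ⟨k + 1 + 1, hk⟩ (Nat.lt_succ_self _), add_zero] at h1
        exact h1.symm
      -- differences move along the vector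
      have hd : ∀ (i : ℕ) (j : ℕ) (hi : i + 1 < n),
          (∀ i' : Fin n, (i' : ℕ) = i + 1 → ((A ^ j) *ᵥ a) i' = 0) := by
        intro i
        induction i with
        | zero =>
          intro j hi i' hi'
          have h1 : ((A ^ (j + 1)) *ᵥ a) (i0 hn) = _ := hz (j + 1)
          rw [pow_succ', ← Matrix.mulVec_mulVec, hAe, hz j,
            dif_pos (show ((i0 hn : Fin n) : ℕ) + 1 < n by simp; omega), add_eq_left] at h1
          rwa [show i' = ⟨((i0 hn : Fin n) : ℕ) + 1, by simp; omega⟩ from Fin.ext (by simpa using hi')]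
        | succ i ihi =>
          intro j hi i' hi'
          have h1 := ihi (j + 1) (by omega) ⟨i + 1, by omega⟩ rfl
          rw [pow_succ', ← Matrix.mulVec_mulVec, hAe, ihi j (by omega) ⟨i + 1, by omega⟩ rfl,
            dif_pos (show i + 1 + 1 < n by omega), zero_add] at h1
          rwa [show i' = ⟨i + 1 + 1, by omega⟩ from Fin.ext hi']
      exact hat (by simpa using hd k 0 (by omega) t rfl)
  -- vectors `(a, f_l)` with `a l = 1`
  set b1 : Fin n → F := Pi.single l 1 with hb1
  have hBb : Bᵀ *ᵥ b1 = b1 := by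
    refine jordanT_inv_mulVec ?_
    funext i
    rw [hAt]
    split_ifs with h
    · rw [show b1 ⟨(i : ℕ) - 1, by omega⟩ = 0 from
        Pi.single_eq_of_ne (Fin.ne_of_val_ne (by simp [hl']; omega)) _, add_zero]
    · rw [add_zero]
  have hY1 : ∀ a : Fin n → F, a l = 1 → pre a l = 0 → Ctr G (Sum.elim a b1) := by
    intro a hal hp
    have h1 := hV _ _ (hlow (n - 2) (by omega) (fun i : Fin n => pre a i) fun i hi => by
      rw [show i = l from Fin.ext (by omega)]; exact hp)
    rwa [hpull, hal, Matrix.mulVec_zero, zero_add] at h1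
  set i1 : Fin n := ⟨1, by omega⟩ with hi1
  have hl0 : i0 hn ≠ l := Fin.ne_of_val_ne (by simp [hl']; omega)
  have hl1 : i1 ≠ l := Fin.ne_of_val_ne (by simp [hi1, hl']; omega)
  have hY0 : ∀ i : Fin n, i ≠ l → Ctr G (Sum.elim (A *ᵥ Pi.single i 1) b1) := by
    intro i hil
    have h0 : pre (Pi.single i 1 + b1) l = 0 := by
      simp only [pre, Pi.add_apply, hb1, Finset.sum_add_distrib]
      rw [Finset.sum_pi_single' (M := F), Finset.sum_pi_single' (M := F), if_pos, if_pos, h2] <;>
        simp [hl'] <;> omega
    have h1 := hU _ _ (hY1 _ (by simp [hb1, hil.symm]) h0)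
    rw [add_assoc, hb1, Pi.single_eq_same, ← Pi.single_add, h2, Pi.single_zero, add_zero] at h1
    rwa [← hb1, hBb] at h1
  have hA0 : A *ᵥ Pi.single (i0 hn) 1 = (Pi.single (i0 hn) 1 : Fin n → F) := by
    funext i
    rw [hAe]
    split_ifs with h
    · simp [Pi.single_apply, Fin.ext_iff]
    · rw [add_zero]
  have hA1 : A *ᵥ Pi.single i1 1 = (Pi.single (i0 hn) 1 + Pi.single i1 1 : Fin n → F) := by
    funext i
    rw [hAe, Pi.add_apply, add_comm ((Pi.single (i0 hn) 1 : Fin n → F) i)]
    congr 1
    simp only [hi1, Pi.single_apply, Fin.ext_iff, i0]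
    split_ifs <;> first | rfl | omega
  have hz0 := hA0 ▸ hY0 _ hl0
  have hz1 := hA1 ▸ hY0 _ hl1
  have hbb : b1 + b1 = 0 := funext fun i => h2 _
  -- all `(a, f_l)` with `a l = 1`
  have hY : ∀ a : Fin n → F, a l = 1 → Ctr G (Sum.elim a b1) := by
    intro a hal
    by_cases hp : pre a l = 0
    · exact hY1 a hal hp
    have h1 : Ctr G (Sum.elim (a + Pi.single i1 1) b1) := by
      refine hY1 _ (by simp [hal, hl1.symm]) ?_
      simp only [pre, Pi.add_apply, Finset.sum_add_distrib]
      rw [Finset.sum_pi_single' (M := F), if_pos (by simp [hi1, hl']; omega),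
        show (∑ x ∈ Finset.univ.filter (fun j : Fin n => (j : ℕ) ≤ l), a x) = 1 from
          (htwo _).resolve_left hp, h2]
    have h3 := hadd _ _ _ _ h1 hz0 (by simp [hb1, hl0.symm, hal, hl1.symm])
    rw [hbb] at h3
    have h4 := hadd _ _ _ _ h3 hz1 (by simp [hb1, hl0.symm, hal, hl1.symm])
    rw [zero_add] at h4
    convert h4 using 2
    funext i
    simp only [Pi.add_apply]
    linear_combination -h2 ((Pi.single i1 1 : Fin n → F) i) - h2 ((Pi.single (i0 hn) 1 : Fin n → F) i)
  -- all `(a, 0)`
  have hE : ∀ a : Fin n → F, Ctr G (Sum.elim a 0) := by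
    intro a
    rcases htwo (a l) with h | h
    · exact hlow (n - 2) (by omega) a fun i hi => by rw [show i = l from Fin.ext (by omega)]; exact h
    · have h1 := hadd _ _ _ _ (hY (a + Pi.single (i0 hn) 1) (by simp [h, hl0.symm])) hz0
        (by simp [hb1, hl0.symm, h])
      rw [hbb] at h1
      convert h1 using 2
      funext i
      simp only [Pi.add_apply]
      linear_combination -h2 ((Pi.single (i0 hn) 1 : Fin n → F) i)
  -- translations
  have htr : ∀ b : Fin n → F, b ≠ 0 → (∃ a, Ctr G (Sum.elim a b)) →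
      ∀ a, Ctr G (Sum.elim a b) := by
    rintro b hb ⟨a, ha⟩
    have step : ∀ (a x : Fin n → F), Ctr G (Sum.elim a b) → b ⬝ᵥ x ≠ 0 →
        Ctr G (Sum.elim (a + x) b) := by
      intro a x ha hx
      have := hadd _ _ _ _ ha (hE x) (by rwa [dotProduct_zero, sub_zero])
      rwa [add_zero] at this
    intro a'
    by_cases hx : b ⬝ᵥ (a' - a) = 0
    · obtain ⟨i, hi⟩ := Function.ne_iff.mp hb
      have h1 := step a (Pi.single i 1) ha (by rwa [dotProduct_single, mul_one])
      have h2' := step _ (a' - a - Pi.single i 1) h1 (by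
        rw [dotProduct_sub, hx, zero_sub, neg_ne_zero, dotProduct_single, mul_one]; exact hi)
      convert h2' using 2
      abel
    · have := step a (a' - a) ha hx
      rwa [add_sub_cancel] at this
  -- the second halves form a subspace
  let C : Submodule F (Fin n → F) :=
    { carrier := {b | ∀ a, Ctr G (Sum.elim a b)}
      zero_mem' := hE
      add_mem' := fun {b b'} hb hb' => by
        rcases eq_or_ne b' 0 with rfl | h0
        · simpa using hb
        rcases eq_or_ne (b + b') 0 with h | h
        · rw [h]; exact hE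
        obtain ⟨i, hi⟩ := Function.ne_iff.mp h0
        refine htr _ h ⟨Pi.single i 1 + 0, hadd _ _ _ _ (hb (Pi.single i 1)) (hb' 0) ?_⟩
        rw [dotProduct_zero, zero_sub, neg_ne_zero, single_dotProduct, one_mul]
        exact hi
      smul_mem' := fun c b hb => by
        rcases htwo c with rfl | rfl
        · rw [zero_smul]; exact hE
        · rwa [one_smul] }
  have hb1C : b1 ∈ C := htr _ (by simp [hb1]) ⟨_, hz0⟩
  have hNC : ∀ b ∈ C, shiftMat n F *ᵥ b ∈ C := by
    intro b hb
    rcases eq_or_ne b 0 with rfl | hb0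
    · rw [Matrix.mulVec_zero]; exact C.zero_mem
    have h1 : A *ᵥ b ∈ C := by
      refine htr _ (fun h => hb0 ?_) ⟨B *ᵥ 0, ?_⟩
      · have : B *ᵥ (A *ᵥ b) = b := by
          rw [Matrix.mulVec_mulVec, Units.inv_mul, Matrix.one_mulVec]
        rw [← this, h, Matrix.mulVec_zero]
      · have := (hb 0).act hv
        convert this using 1
        apply act_injective (jG * uu F hn * jG⁻¹)⁻¹
        rw [act_inv_act, actv, Matrix.mulVec_zero, Matrix.mulVec_zero]
        simp [Matrix.mulVec_mulVec, hA, hB]
    have := C.sub_mem h1 hb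
    rwa [hA, jordan_val, Matrix.add_mulVec, Matrix.one_mulVec, add_sub_cancel_left] at this
  have hall : ∀ (d : ℕ) (i : Fin n), (i : ℕ) + d = n - 1 → (Pi.single i 1 : Fin n → F) ∈ C := by
    intro d
    induction d with
    | zero =>
      intro i hi
      rw [show i = l from Fin.ext (by omega)]
      exact hb1C
    | succ d ihd =>
      intro i hi
      have h1 := hNC _ (ihd ⟨(i : ℕ) + 1, by omega⟩ (by simp only; omega))
      convert h1 using 1
      funext j
      rw [shift_mulVec]
      simp only [Pi.single_apply, Fin.ext_iff]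
      split_ifs <;> first | rfl | omega
  have hC : ∀ b, b ∈ C := by
    intro b
    rw [pi_eq_sum_univ' b]
    exact C.sum_mem fun i _ => C.smul_mem _ (hall (n - 1 - i) i (by omega))
  rw [eq_top_iff, ← sp_generated, TG, Subgroup.closure_le]
  rintro g ⟨w, t, rfl⟩
  have := hC (w ∘ Sum.inr) (w ∘ Sum.inl) t
  rwa [Sum.elim_comp_inl_inr] at this

end Cfsg.Agent.Small.Generation.SpThree
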