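import Mathlib
import Cfsg.Agent.Lib.Small.PSpn.Simple

/-!
A subgroup of `Sp_{2m}(F)` containing a full transvection group along `c₀`, a regular unipotent
`u` fixing `c₀`, and an element `v` whose orbit of `c₀` spans, is the whole group.
-/

set_option autoImplicit false
set_option linter.unusedSectionVars false

namespace Cfsg.Agent.Small.Generation.SpThree

open Matrix PSpn
open Cfsg.Agent.Lead.Symp (form_self form_swap exists_form_ne)

variable {F : Type*} [Field F] {m : ℕ}

local notation "Vm" => Fin m ⊕ Fin m → F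
local notation "Gm" => Matrix.symplecticGroup (Fin m) F

theorem sf_comm_zero {a b : Vm} (h : sf a b = 0) : sf b a = 0 := by
  rw [sf, form_swap, ← sf, h, neg_zero]

theorem sf_comm_ne {a b : Vm} (h : sf a b ≠ 0) : sf b a ≠ 0 := fun h' => h (sf_comm_zero h')

/-- A nonzero invariant submodule of a unipotent element has a nonzero fixed vector. -/
theorem exists_fixed {u : Gm} (hu : IsNilpotent (u.1 - 1)) {W : Submodule F Vm}
    (hW : ∀ x ∈ W, act u x ∈ W) {x : Vm} (hx : x ∈ W) (hx0 : x ≠ 0) :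
    ∃ y ∈ W, y ≠ 0 ∧ act u y = y := by
  obtain ⟨k, hk⟩ := hu
  have hzero : (u.1 - 1) ^ k *ᵥ x = 0 := by rw [hk, Matrix.zero_mulVec]
  clear hk
  induction k generalizing x with
  | zero => rw [pow_zero, Matrix.one_mulVec] at hzero; exact absurd hzero hx0
  | succ k ih =>
    have hmv : (u.1 - 1) *ᵥ x = act u x - x := by rw [Matrix.sub_mulVec, Matrix.one_mulVec]; rfl
    by_cases h : act u x - x = 0
    · exact ⟨x, hx, hx0, sub_eq_zero.mp h⟩
    · refine ih (W.sub_mem (hW x hx) hx) h ?_
      rwa [← hmv, Matrix.mulVec_mulVec, ← pow_succ]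

/-- The centres of the transvection groups inside `G`. -/
def Ctr (G : Subgroup Gm) (c : Vm) : Prop := ∀ t : F, eich c 0 t ∈ G

variable {G : Subgroup (Matrix.symplecticGroup (Fin m) F)}

theorem Ctr.act {c : Vm} (hc : Ctr G c) {g : Gm} (hg : g ∈ G) : Ctr G (act g c) := by
  intro t
  have h := mul_mem (mul_mem hg (hc t)) (inv_mem hg)
  rwa [eich_conj g t (sf_zero_right c), act_zero] at h

theorem Ctr.smul {c : Vm} (hc : Ctr G c) (k : F) : Ctr G (k • c) := by
  intro t
  rcases eq_or_ne k 0 with rfl | hk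
  · have : eich (0 • c : Vm) 0 t = 1 := eq_of_act fun x => by
      rw [act_eich_zero, act_one]; simp
    rw [zero_smul] at this ⊢
    rw [this]; exact one_mem G
  · rw [eich_smul t hk (sf_zero_right _), smul_zero]
    exact hc _

theorem Ctr.pair {c d : Vm} (hc : Ctr G c) (hd : Ctr G d) (h : sf c d ≠ 0) (k : F) :
    Ctr G (c + k • d) := by
  have h1 := hc.act (hd (k / sf d c))
  rwa [act_eich_zero, div_mul_cancel₀ _ (sf_comm_ne h)] at h1

/-- Two centres have a common neighbour. -/
def Nb (G : Subgroup Gm) (a b : Vm) : Prop := ∃ e, Ctr G e ∧ sf e a ≠ 0 ∧ sf e b ≠ 0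

theorem Nb.symm {a b : Vm} (h : Nb G a b) : Nb G b a := by
  obtain ⟨e, he, h1, h2⟩ := h; exact ⟨e, he, h2, h1⟩

theorem Nb.step {a b c d : Vm} (hb : Ctr G b) (hc : Ctr G c) (h1 : sf a b ≠ 0) (h2 : sf b c ≠ 0)
    (h3 : sf c d ≠ 0) : Nb G a d := by
  by_cases hbd : sf b d = 0
  · by_cases hca : sf c a = 0
    · refine ⟨b + (1 : F) • c, hb.pair hc h2 1, ?_, ?_⟩
      · rw [sf_add_left, sf_smul_left, hca, mul_zero, add_zero]; exact sf_comm_ne h1
      · rw [sf_add_left, sf_smul_left, hbd, zero_add, one_mul]; exact h3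
    · exact ⟨c, hc, hca, h3⟩
  · exact ⟨b, hb, sf_comm_ne h1, hbd⟩

theorem Ctr.add_of_nb {c d : Vm} (hc : Ctr G c) (hd : Ctr G d) (hnb : Nb G c d)
    (hspan : ∀ x : Vm, x ≠ 0 → ∃ z, Ctr G z ∧ sf x z ≠ 0) (h3 : ∃ ω : F, ω ≠ 0 ∧ ω ≠ 1) :
    Ctr G (c + d) := by
  by_cases h : sf c d = 0
  swap
  · simpa using hc.pair hd h 1
  -- generic combination through a common neighbour
  have key : ∀ (c d e : Vm) (k : F), Ctr G c → Ctr G d → Ctr G e → sf c d = 0 → sf e c ≠ 0 →
      sf e d ≠ 0 → sf e c + k * sf e d ≠ 0 → Ctr G (c + k • d) := by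
    intro c d e k hc hd he h hec hed hk
    have h1 := hc.pair he (sf_comm_ne hec) 1
    have h2 := h1.pair hd (by rw [sf_add_left, sf_smul_left, h, zero_add, one_mul]; exact hed) k
    have h3 := h2.pair he (by
      apply sf_comm_ne
      rw [sf_add_right, sf_add_right, sf_smul_right, sf_smul_right,
        show sf e e = 0 from form_self e, mul_zero, add_zero]
      exact hk) (-1)
    convert h3 using 1
    module
  obtain ⟨e, he, hec, hed⟩ := hnb
  by_cases hk : sf e c + 1 * sf e d = 0
  swap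
  · simpa using key c d e 1 hc hd he h hec hed hk
  rcases eq_or_ne (c + d) 0 with h0 | h0
  · rw [h0]; simpa using hc.smul 0
  obtain ⟨z, hz, hxz⟩ := hspan _ h0
  -- it suffices to put `c + d + t z` into the centres for some `t`
  have back : ∀ t : F, Ctr G (c + d + t • z) → Ctr G (c + d) := by
    intro t ht
    have h1 := ht.pair hz (by
      rw [sf_add_left, sf_smul_left, show sf z z = 0 from form_self z, mul_zero, add_zero]
      exact hxz) (-t)
    convert h1 using 1
    module
  -- the symmetric core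
  have core : ∀ c d : Vm, Ctr G c → Ctr G d → sf c d = 0 → sf c z ≠ 0 → (∃ e, Ctr G e ∧ sf e c ≠ 0 ∧
      sf e d ≠ 0 ∧ sf e c + sf e d = 0) → ∃ t : F, Ctr G (c + d + t • z) := by
    intro c d hc hd h hcz ⟨e, he, hec, hed, hsum⟩
    by_cases hzd : sf z d = 0
    swap
    · refine ⟨1, ?_⟩
      have h1 := hc.pair hz hcz 1
      have h2 := h1.pair hd (by rw [sf_add_left, sf_smul_left, h, zero_add, one_mul]; exact hzd) 1
      convert h2 using 1
      module
    obtain ⟨e', he', hec', hed', hez', hsum'⟩ : ∃ e', Ctr G e' ∧ sf e' c ≠ 0 ∧ sf e' d ≠ 0 ∧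
        sf e' z ≠ 0 ∧ sf e' c + sf e' d = 0 := by
      by_cases hez : sf e z = 0
      · refine ⟨e + (1 : F) • c, he.pair hc hec 1, ?_, ?_, ?_, ?_⟩ <;>
          simp only [sf_add_left, sf_smul_left, h, show sf c c = 0 from form_self c, hez, mul_zero,
            add_zero, zero_add, one_mul]
        · exact hec
        · exact hed
        · exact hcz
        · exact hsum
      · exact ⟨e, he, hec, hed, hez, hsum⟩
    -- choose `t` with `sf e' (c + t z) ≠ 0`
    obtain ⟨t, ht0, ht⟩ : ∃ t : F, t ≠ 0 ∧ sf e' c + t * sf e' z ≠ 0 := by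
      by_cases hone : sf e' c + sf e' z = 0
      · obtain ⟨ω, hω0, hω1⟩ := h3
        refine ⟨ω, hω0, fun h => ?_⟩
        have : (ω - 1) * sf e' z = 0 := by linear_combination h - hone
        exact sub_ne_zero.mpr hω1 ((mul_eq_zero.mp this).resolve_right hez')
      · exact ⟨1, one_ne_zero, by rwa [one_mul]⟩
    refine ⟨t, ?_⟩
    have h1 := hc.pair hz hcz t
    have h2 := key (c + t • z) d e' 1 h1 hd he'
      (by rw [sf_add_left, sf_smul_left, h, hzd, mul_zero, add_zero])
      (by rw [sf_add_right, sf_smul_right]; exact ht) hed'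
      (by
        rw [sf_add_right, sf_smul_right, one_mul,
          show sf e' c + t * sf e' z + sf e' d = t * sf e' z by linear_combination hsum']
        exact mul_ne_zero ht0 hez')
    convert h2 using 1
    module
  by_cases hcz : sf c z = 0
  · have hdz : sf d z ≠ 0 := by rwa [sf_add_left, hcz, zero_add] at hxz
    obtain ⟨t, ht⟩ := core d c hd hc (sf_comm_zero h) hdz ⟨e, he, hed, hec, by linear_combination hk⟩
    rw [add_comm d c] at ht
    exact back t ht
  · obtain ⟨t, ht⟩ := core c d hc hd h hcz ⟨e, he, hec, hed, by linear_combination hk⟩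
    exact back t ht

/-- The generation criterion. -/
theorem top_of_full [Fintype F] {u v : Gm} (huG : u ∈ G) (hvG : v ∈ G) {c₀ : Vm} (hc0 : c₀ ≠ 0)
    (hfix : act u c₀ = c₀) (hfixed : ∀ x, act u x = x → ∃ k : F, x = k • c₀)
    (hnil : IsNilpotent (u.1 - 1))
    (hspan : Submodule.span F (Set.range fun k : ℕ => act (v ^ k) c₀) = ⊤)
    (hT : Ctr G c₀) (h3 : ∃ ω : F, ω ≠ 0 ∧ ω ≠ 1) : G = ⊤ := by
  classical
  have hne : ∀ x : Vm, x ≠ 0 → ∃ z, Ctr G z ∧ sf x z ≠ 0 := by
    intro x hx
    by_contra hcon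
    push Not at hcon
    obtain ⟨w, hw⟩ := exists_form_ne hx
    refine hw ?_
    have hmem : w ∈ Submodule.span F (Set.range fun k : ℕ => act (v ^ k) c₀) := by
      rw [hspan]; trivial
    change sf x w = 0
    clear hw
    induction hmem using Submodule.span_induction with
    | mem y hy => obtain ⟨k, rfl⟩ := hy; exact hcon _ (hT.act (pow_mem hvG k))
    | zero => exact sf_zero_right x
    | add a b _ _ ha hb => rw [sf_add_right, ha, hb, add_zero]
    | smul k a _ ha => rw [sf_smul_right, ha, mul_zero]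
  have hself : Nb G c₀ c₀ := by
    obtain ⟨z, hz, hz'⟩ := hne c₀ hc0
    exact ⟨z, hz, sf_comm_ne hz', sf_comm_ne hz'⟩
  set I := {d : Vm | Ctr G d ∧ Nb G c₀ d} with hI
  set O := {d : Vm | Ctr G d ∧ ¬ Nb G c₀ d} with hO
  have hIO : ∀ i ∈ I, ∀ o ∈ O, sf i o = 0 := by
    rintro i ⟨hi, e, he, hec, hei⟩ o ⟨ho, hno⟩
    by_contra hio
    exact hno (Nb.step he hi (sf_comm_ne hec) hei hio)
  have hperp : ∀ x ∈ Submodule.span F O, ∀ i ∈ I, sf i x = 0 := by
    intro x hx i hi
    induction hx using Submodule.span_induction with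
    | mem y hy => exact hIO i hi y hy
    | zero => exact sf_zero_right i
    | add a b _ _ ha hb => rw [sf_add_right, ha, hb, add_zero]
    | smul k a _ ha => rw [sf_smul_right, ha, mul_zero]
  have hinv : ∀ x ∈ Submodule.span F O, act u x ∈ Submodule.span F O := by
    intro x hx
    induction hx using Submodule.span_induction with
    | mem y hy =>
      refine Submodule.subset_span ⟨hy.1.act huG, fun ⟨e, he, h1, h2⟩ => hy.2 ?_⟩
      refine ⟨act u⁻¹ e, he.act (inv_mem huG), ?_, ?_⟩
      · rw [← sf_act u, act_act_inv, hfix]; exact h1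
      · rw [← sf_act u, act_act_inv]; exact h2
    | zero => rw [act_zero]; exact Submodule.zero_mem _
    | add a b _ _ ha hb => rw [act_add]; exact Submodule.add_mem _ ha hb
    | smul k a _ ha => rw [act_smul]; exact Submodule.smul_mem _ _ ha
  -- every nonzero centre is linked to `c₀`
  have hlink : ∀ d, Ctr G d → d ≠ 0 → Nb G c₀ d := by
    intro d hd hd0
    by_contra hn
    obtain ⟨y, hy, hy0, hyu⟩ := exists_fixed hnil hinv (Submodule.subset_span (s := O) ⟨hd, hn⟩) hd0
    obtain ⟨k, rfl⟩ := hfixed y hyu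
    have hk : k ≠ 0 := fun h => hy0 (by rw [h, zero_smul])
    obtain ⟨z, hz, hz'⟩ := hne c₀ hc0
    have hzI : z ∈ I := ⟨hz, z + (1 : F) • c₀, hz.pair hT (sf_comm_ne hz') 1, by
      rw [sf_add_left, sf_smul_left, show sf c₀ c₀ = 0 from form_self c₀, mul_zero, add_zero]
      exact sf_comm_ne hz', by
      rw [sf_add_left, sf_smul_left, show sf z z = 0 from form_self z, zero_add, one_mul]
      exact hz'⟩
    have h1 := hperp _ hy z hzI
    rw [sf_smul_right] at h1
    exact sf_comm_ne hz' ((mul_eq_zero.mp h1).resolve_left hk)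
  have hnb : ∀ c d, Ctr G c → Ctr G d → c ≠ 0 → d ≠ 0 → Nb G c d := by
    intro c d hc hd hc' hd'
    obtain ⟨e, he, he0, hec⟩ := hlink c hc hc'
    obtain ⟨f, hf, hf0, hfd⟩ := hlink d hd hd'
    obtain ⟨g, hg, hgc, hgf⟩ := Nb.step (d := f) he hT (sf_comm_ne hec) he0 (sf_comm_ne hf0)
    exact Nb.step hg hf (sf_comm_ne hgc) hgf hfd
  let C : Submodule F Vm :=
    { carrier := {c | Ctr G c}
      zero_mem' := by
        have := hT.smul 0
        rwa [zero_smul] at this
      add_mem' := fun {a b} ha hb => by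
        rcases eq_or_ne a 0 with rfl | ha0
        · rwa [zero_add]
        rcases eq_or_ne b 0 with rfl | hb0
        · rwa [add_zero]
        exact Ctr.add_of_nb ha hb (hnb a b ha hb ha0 hb0) hne h3
      smul_mem' := fun k a ha => Ctr.smul ha k }
  have hC : C = ⊤ := by
    rw [eq_top_iff, ← hspan, Submodule.span_le]
    rintro x ⟨k, rfl⟩
    exact hT.act (pow_mem hvG k)
  rw [eq_top_iff, ← sp_generated, TG, Subgroup.closure_le]
  rintro g ⟨w, t, rfl⟩
  have : w ∈ C := by rw [hC]; trivial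
  exact this t

end Cfsg.Agent.Small.Generation.SpThree
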