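import Cfsg.Agent.Lib.Small.Generation.SpThree.Closure
import Cfsg.Agent.Lib.Small.ClassicalHom
import Cfsg.Agent.Lib.Small.SpRegular.Exists

/-!
The regular unipotent element `u = L(1 + N) ⋅ (1, E_ll; 0, 1)` of `Sp_{2n}(F)`.
-/

set_option autoImplicit false
set_option linter.unusedSectionVars false

namespace Cfsg.Agent.Small.Generation.SpThree

open Matrix PSpn
open Cfsg.Agent.Small (spHom jordanGL shiftMat)
open Cfsg.Agent.Lead.Symp (form_eq)

variable {F : Type*} [Field F] {n : ℕ}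

local notation "Vn" => Fin n ⊕ Fin n → F
local notation "Gn" => Matrix.symplecticGroup (Fin n) F

theorem sf_elim (a b a' b' : Fin n → F) :
    sf (Sum.elim a b) (Sum.elim a' b') = b ⬝ᵥ a' - a ⬝ᵥ b' := by
  rw [sf, form_eq]
  simp [dotProduct, Finset.sum_sub_distrib]

/-- The element `(1, X; 0, 1)`. -/
def sigG (X : Matrix (Fin n) (Fin n) F) (h : Xᵀ = X) : Gn :=
  ⟨fromBlocks 1 X 0 1, by rw [SymplecticGroup.fromBlocks_mem_iff]; simp [h]⟩

theorem act_sigG (X : Matrix (Fin n) (Fin n) F) (h : Xᵀ = X) (a b : Fin n → F) :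
    act (sigG X h) (Sum.elim a b) = Sum.elim (a + X *ᵥ b) b := by
  simp [act, sigG, fromBlocks_mulVec]

theorem act_spHom (M : GL (Fin n) F) (a b : Fin n → F) :
    act (spHom n F M) (Sum.elim a b) =
      Sum.elim ((M : Matrix (Fin n) (Fin n) F) *ᵥ a)
        (((M⁻¹ : GL (Fin n) F) : Matrix (Fin n) (Fin n) F)ᵀ *ᵥ b) := by
  change (Cfsg.Agent.Small.leviHom n F M).val *ᵥ _ = _
  rw [Cfsg.Agent.Small.coe_leviHom, fromBlocks_mulVec]
  simp

/-- The first index. -/
abbrev i0 (hn : 2 ≤ n) : Fin n := ⟨0, by omega⟩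

/-- The last index. -/
abbrev il (hn : 2 ≤ n) : Fin n := ⟨n - 1, by omega⟩

/-- The element `(1, E_ll; 0, 1)`. -/
noncomputable def sigL (hn : 2 ≤ n) : Gn :=
  sigG (Matrix.single (il hn) (il hn) 1) (Matrix.transpose_single _ _ _)

variable (F) in
/-- The regular unipotent element. -/
noncomputable def uu (hn : 2 ≤ n) : Gn := spHom n F (jordanGL n F) * sigL hn

theorem jordan_val (n : ℕ) : (jordanGL n F : Matrix (Fin n) (Fin n) F) = 1 + shiftMat n F := by
  rw [← Cfsg.Agent.Small.jordanGL_sub_one]; abel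

theorem shift_mulVec (x : Fin n → F) (i : Fin n) :
    (shiftMat n F *ᵥ x) i = if h : (i : ℕ) + 1 < n then x ⟨(i : ℕ) + 1, h⟩ else 0 := by
  simp only [Matrix.mulVec, dotProduct, shiftMat, Matrix.of_apply]
  by_cases h : (i : ℕ) + 1 < n
  · rw [dif_pos h, Finset.sum_eq_single ⟨(i : ℕ) + 1, h⟩]
    · simp
    · intro b _ hb
      rw [if_neg (fun h' => hb (Fin.ext h')), zero_mul]
    · simp
  · rw [dif_neg h, Finset.sum_eq_zero]
    intro b _
    rw [if_neg (by omega), zero_mul]

theorem shiftT_mulVec (x : Fin n → F) (i : Fin n) :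
    ((shiftMat n F)ᵀ *ᵥ x) i = if 1 ≤ (i : ℕ) then x ⟨(i : ℕ) - 1, by omega⟩ else 0 := by
  simp only [Matrix.mulVec, dotProduct, shiftMat, Matrix.of_apply, Matrix.transpose_apply]
  by_cases h : 1 ≤ (i : ℕ)
  · rw [if_pos h, Finset.sum_eq_single ⟨(i : ℕ) - 1, by omega⟩]
    · rw [if_pos (show (i : ℕ) = (i : ℕ) - 1 + 1 by omega), one_mul]
    · intro b _ hb
      have : (b : ℕ) ≠ (i : ℕ) - 1 := fun h' => hb (Fin.ext h')
      rw [if_neg (by omega), zero_mul]
    · simp
  · rw [if_neg h, Finset.sum_eq_zero]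
    intro b _
    rw [if_neg (by omega), zero_mul]

/-- The fixed space of `u` is the line through the first basis vector. -/
theorem uu_fixed (hn : 2 ≤ n) (x : Vn) (hx : act (uu F hn) x = x) :
    ∃ k : F, x = k • (Pi.single (.inl (i0 hn)) 1 : Vn) := by
  set l := il hn with hl
  set a : Fin n → F := x ∘ Sum.inl with ha
  set b : Fin n → F := x ∘ Sum.inr with hb
  set A := (jordanGL n F : Matrix (Fin n) (Fin n) F) with hA
  have hx' : x = Sum.elim a b := (Sum.elim_comp_inl_inr x).symm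
  rw [hx', uu, act_mul, sigL, act_sigG, act_spHom] at hx
  obtain ⟨h1, h2⟩ := Sum.elim_eq_iff.mp hx
  have h3 : (shiftMat n F)ᵀ *ᵥ b = 0 := by
    have h := congrArg (fun y => Aᵀ *ᵥ y) h2
    rw [hA, Matrix.mulVec_mulVec, Cfsg.Agent.Small.gl_transpose_inv, Matrix.one_mulVec,
      jordan_val, Matrix.transpose_add, Matrix.transpose_one, Matrix.add_mulVec,
      Matrix.one_mulVec] at h
    rwa [left_eq_add] at h
  have hb0 : ∀ i : Fin n, i ≠ l → b i = 0 := by
    intro i hi
    have hlt : (i : ℕ) + 1 < n := by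
      have := Fin.val_ne_of_ne hi
      simp only [hl, il] at this
      omega
    have := congrFun h3 ⟨(i : ℕ) + 1, hlt⟩
    rw [shiftT_mulVec, if_pos (by simp)] at this
    simpa using this
  have hS : Matrix.single l l (1 : F) *ᵥ b = Pi.single l (b l) := by
    funext i
    simp [Matrix.mulVec, dotProduct, Matrix.single_apply, Pi.single_apply, eq_comm, ite_and]
  rw [hS, jordan_val, Matrix.add_mulVec, Matrix.one_mulVec] at h1
  have hrow : ∀ i : Fin n, (Pi.single l (b l) : Fin n → F) i +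
      (shiftMat n F *ᵥ (a + Pi.single l (b l))) i = 0 := by
    intro i
    have := congrFun h1 i
    simp only [Pi.add_apply] at this
    linear_combination this
  have hbl : b l = 0 := by
    have := hrow l
    rwa [Pi.single_eq_same, shift_mulVec, dif_neg (by simp [hl, il]; omega), add_zero] at this
  have ha0 : ∀ i : Fin n, i ≠ i0 hn → a i = 0 := by
    intro i hi
    have hpos : 1 ≤ (i : ℕ) := Nat.one_le_iff_ne_zero.mpr fun h => hi (Fin.ext h)
    have := hrow ⟨(i : ℕ) - 1, by omega⟩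
    rw [hbl, Pi.single_zero, add_zero, Pi.zero_apply, zero_add, shift_mulVec,
      dif_pos (show (i : ℕ) - 1 + 1 < n by omega)] at this
    convert this using 2
    exact Fin.ext (by simp only; omega)
  refine ⟨x (.inl (i0 hn)), ?_⟩
  funext j
  rcases j with i | i
  · rcases eq_or_ne i (i0 hn) with rfl | h
    · simp
    · rw [Pi.smul_apply, Pi.single_eq_of_ne (fun h' => h (Sum.inl_injective h'))]
      simpa [ha] using ha0 i h
  · rw [Pi.smul_apply, Pi.single_eq_of_ne (by simp)]
    rcases eq_or_ne i l with rfl | h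
    · simpa [hb] using hbl
    · simpa [hb] using hb0 i h

theorem uu_fix (hn : 2 ≤ n) :
    act (uu F hn) (Pi.single (.inl (i0 hn)) 1 : Vn) = Pi.single (.inl (i0 hn)) 1 := by
  have h0 : (Pi.single (.inl (i0 hn)) 1 : Vn) = Sum.elim (Pi.single (i0 hn) 1) 0 := by
    funext j; rcases j with j | j <;> simp [Pi.single_apply]
  rw [h0, uu, act_mul, sigL, act_sigG, act_spHom, Matrix.mulVec_zero, add_zero, Matrix.mulVec_zero,
    jordan_val, Matrix.add_mulVec, Matrix.one_mulVec]
  congr 1
  rw [add_eq_left]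
  funext i
  rw [shift_mulVec]
  split_ifs with h
  · exact Pi.single_eq_of_ne (Fin.ne_of_val_ne (by simp)) _
  · rfl

/-- The orbit of a vector outside the invariant hyperplane spans. -/
theorem uu_span [Fintype F] (hn : 2 ≤ n) (hnil : IsNilpotent ((uu F hn).1 - 1)) {w : Vn}
    (hw : w (.inr (i0 hn)) ≠ 0) :
    Submodule.span F (Set.range fun k : ℕ => act (uu F hn ^ k) w) = ⊤ := by
  classical
  set u := uu F hn
  set W := Submodule.span F (Set.range fun k : ℕ => act (u ^ k) w) with hW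
  by_contra hne
  obtain ⟨φ, hφ0, hφ⟩ := W.exists_le_ker_of_lt_top (lt_top_iff_ne_top.mpr hne)
  let P : Submodule F Vn :=
    { carrier := {x | ∀ y ∈ W, sf x y = 0}
      zero_mem' := fun y _ => sf_zero_left y
      add_mem' := fun {a b} ha hb y hy => by rw [sf_add_left, ha y hy, hb y hy, add_zero]
      smul_mem' := fun k a ha y hy => by rw [sf_smul_left, ha y hy, mul_zero] }
  have hWu : ∀ y ∈ W, act u⁻¹ y ∈ W := by
    intro y hy
    have hk : ∃ k : ℕ, u⁻¹ = u ^ k := ⟨orderOf u - 1, by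
      rw [inv_eq_iff_mul_eq_one, ← pow_succ', Nat.sub_add_cancel (orderOf_pos u),
        pow_orderOf_eq_one]⟩
    obtain ⟨k, hk⟩ := hk
    rw [hk]
    induction hy using Submodule.span_induction with
    | mem z hz =>
      obtain ⟨j, rfl⟩ := hz
      simp only
      rw [← act_mul, ← pow_add]
      exact Submodule.subset_span ⟨k + j, rfl⟩
    | zero => rw [act_zero]; exact W.zero_mem
    | add a b _ _ ha hb => rw [act_add]; exact W.add_mem ha hb
    | smul c a _ ha => rw [act_smul]; exact W.smul_mem _ ha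
  have hinv : ∀ x ∈ P, act u x ∈ P := by
    intro x hx y hy
    rw [← sf_act u⁻¹, act_inv_act]
    exact hx _ (hWu y hy)
  -- a nonzero vector orthogonal to `W`
  set c : Vn := fun j => φ (Pi.single j 1) with hc
  have hdot : ∀ y, c ⬝ᵥ y = φ y := by
    intro y
    conv_rhs => rw [pi_eq_sum_univ' y]
    simp [dotProduct, hc, map_sum, mul_comm]
  set x : Vn := Matrix.J (Fin n) F *ᵥ c with hx
  have hxsf : ∀ y, sf x y = c ⬝ᵥ y := by
    intro y
    rw [sf, Cfsg.sympForm, hx, Matrix.dotProduct_mulVec, Matrix.vecMul_mulVec, Matrix.J_transpose,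
      Matrix.neg_mul, Matrix.J_squared, neg_neg, Matrix.vecMul_one]
  have hxP : x ∈ P := fun y hy => by rw [hxsf, hdot]; exact hφ hy
  have hx0 : x ≠ 0 := fun h0 => hφ0 (LinearMap.ext fun y => by
    rw [← hdot, ← hxsf, h0, sf_zero_left]; rfl)
  obtain ⟨y, hy, hy0, hyf⟩ := exists_fixed hnil hinv hxP hx0
  obtain ⟨k, rfl⟩ := uu_fixed hn y hyf
  have h1 := hy w (Submodule.subset_span ⟨0, by simp [act_one]⟩)
  rw [sf_smul_left] at h1
  have hk : k ≠ 0 := fun h => hy0 (by rw [h, zero_smul])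
  have h2 : sf (Pi.single (.inl (i0 hn)) 1 : Vn) w = -w (.inr (i0 hn)) := by
    simp [sf, form_eq, Pi.single_apply]
  rw [h2] at h1
  exact hw (neg_eq_zero.mp ((mul_eq_zero.mp h1).resolve_left hk))

/-- Transfer of spanning to a conjugate. -/
theorem span_conj {u h : Gn} {w : Vn}
    (hs : Submodule.span F (Set.range fun k : ℕ => act (u ^ k) w) = ⊤) :
    Submodule.span F (Set.range fun k : ℕ => act ((h * u * h⁻¹) ^ k) (act h w)) = ⊤ := by
  have h1 : (fun k : ℕ => act ((h * u * h⁻¹) ^ k) (act h w)) =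
      (Matrix.mulVecLin h.1) ∘ fun k : ℕ => act (u ^ k) w := by
    funext k
    rw [conj_pow, act_mul, act_inv_act, act_mul]
    rfl
  rw [h1, Set.range_comp, ← Submodule.map_span, hs, Submodule.map_top, LinearMap.range_eq_top]
  exact fun y => ⟨act h⁻¹ y, act_act_inv h y⟩

end Cfsg.Agent.Small.Generation.SpThree
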