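import Cfsg.Agent.Lib.Small.Generation.SpThree.Props

/-!
Conjugating elements `h` for which a short word in `u`, `h u h⁻¹` scales the first basis vector.
-/

set_option autoImplicit false
set_option linter.unusedSectionVars false

namespace Cfsg.Agent.Small.Generation.SpThree

open Matrix PSpn
open Cfsg.Agent.Small (spHom jordanGL shiftMat)

variable {F : Type*} [Field F] {n : ℕ}

/-- A map between two frames with the same Gram matrix. -/
theorem exists_sp_of_gram (s t : Fin n ⊕ Fin n → Fin n ⊕ Fin n → F)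
    (hs : ∀ x : Fin n ⊕ Fin n → F, (Matrix.of fun i j => s j i) *ᵥ x = 0 → x = 0)
    (hgram : ∀ i j, sf (t i) (t j) = sf (s i) (s j)) :
    ∃ h : Matrix.symplecticGroup (Fin n) F, ∀ i, act h (s i) = t i := by
  classical
  set Ms : Matrix (Fin n ⊕ Fin n) (Fin n ⊕ Fin n) F := Matrix.of fun i j => s j i
  set Mt : Matrix (Fin n ⊕ Fin n) (Fin n ⊕ Fin n) F := Matrix.of fun i j => t j i
  have hinj : Function.Injective Ms.mulVec := fun x y hxy => by
    refine sub_eq_zero.mp (hs _ ?_)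
    rw [Matrix.mulVec_sub, sub_eq_zero]
    exact hxy
  have hu : IsUnit Ms := Matrix.mulVec_injective_iff_isUnit.mp hinj
  have hd : IsUnit Ms.det := (Matrix.isUnit_iff_isUnit_det _).mp hu
  have hcol : ∀ (s' : Fin n ⊕ Fin n → Fin n ⊕ Fin n → F) a,
      (Matrix.of fun i j => s' j i) *ᵥ Pi.single a (1 : F) = s' a := fun s' a => by
    funext i; rw [Matrix.mulVec_single_one]; rfl
  have hG : Mtᵀ * Matrix.J (Fin n) F * Mt = Msᵀ * Matrix.J (Fin n) F * Ms := by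
    ext a b
    rw [gram_entry, gram_entry, hcol, hcol, hcol, hcol, hgram]
  refine ⟨⟨Mt * Ms⁻¹, ?_⟩, fun i => ?_⟩
  · rw [SymplecticGroup.mem_iff', Matrix.transpose_mul]
    calc Ms⁻¹ᵀ * Mtᵀ * Matrix.J (Fin n) F * (Mt * Ms⁻¹)
        = Ms⁻¹ᵀ * (Mtᵀ * Matrix.J (Fin n) F * Mt) * Ms⁻¹ := by simp only [Matrix.mul_assoc]
      _ = Ms⁻¹ᵀ * (Msᵀ * Matrix.J (Fin n) F * Ms) * Ms⁻¹ := by rw [hG]
      _ = (Ms * Ms⁻¹)ᵀ * Matrix.J (Fin n) F * (Ms * Ms⁻¹) := by
        rw [Matrix.transpose_mul]; simp only [Matrix.mul_assoc]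
      _ = Matrix.J (Fin n) F := by rw [Matrix.mul_nonsing_inv _ hd]; simp
  · change (Mt * Ms⁻¹) *ᵥ s i = t i
    conv_lhs => rw [← hcol s i]
    rw [Matrix.mulVec_mulVec, Matrix.mul_assoc]
    change (Mt * (Ms⁻¹ * Ms)) *ᵥ _ = _
    rw [Matrix.nonsing_inv_mul _ hd, Matrix.mul_one]
    exact hcol t i

/-- Rank two, `μ` a square. -/
theorem frame_two_square (h2 : 2 ≤ 2) {γ : F} (hγ : γ ≠ 0) :
    ∃ (h : Matrix.symplecticGroup (Fin 2) F) (w : Fin 2 ⊕ Fin 2 → F), w (.inr (i0 h2)) ≠ 0 ∧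
      act h w = Pi.single (.inl (i0 h2)) 1 ∧
      act ((h * uu F h2 * h⁻¹) * uu F h2 * (h * uu F h2 * h⁻¹))
        (Pi.single (.inl (i0 h2)) 1) = (γ * γ) • Pi.single (.inl (i0 h2)) 1 := by
  classical
  let e0 : Fin 2 ⊕ Fin 2 → F := Sum.elim ![1, 0] ![0, 0]
  let P : Fin 2 ⊕ Fin 2 → F := Sum.elim ![0, 0] ![1, 0]
  let Q : Fin 2 ⊕ Fin 2 → F := Sum.elim ![0, 0] ![1, -1]
  let R : Fin 2 ⊕ Fin 2 → F := Sum.elim ![0, -1] ![1, 1]
  let c : Fin 2 ⊕ Fin 2 → F := Sum.elim ![0, 0] ![0, γ]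
  let R' : Fin 2 ⊕ Fin 2 → F := Sum.elim ![γ⁻¹, γ⁻¹] ![0, γ⁻¹]
  let y : Fin 2 ⊕ Fin 2 → F := Sum.elim ![0, γ⁻¹] ![-1, -γ + 1 + γ⁻¹]
  obtain ⟨h, hh⟩ := exists_sp_of_gram (Sum.elim ![P, Q] ![R, e0]) (Sum.elim ![e0, c] ![R', y])
    (fun x hx => by
      have e1 := congrFun hx (.inl 0)
      have e2 := congrFun hx (.inl 1)
      have e3 := congrFun hx (.inr 0)
      have e4 := congrFun hx (.inr 1)
      simp [Matrix.mulVec, dotProduct, Fintype.sum_sum_type, Fin.sum_univ_two, e0, P, Q, R] at e1 e2 e3 e4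
      funext i
      rcases i with i | i <;> fin_cases i <;> simp <;> grind)
    (fun i j => by
      rcases i with i | i <;> rcases j with j | j <;> fin_cases i <;> fin_cases j <;>
        simp [sf_elim, dotProduct, Fin.sum_univ_two, e0, P, Q, R, c, R', y] <;> field_simp <;> ring)
  have hP : act h P = e0 := hh (.inl 0)
  have hQ : act h Q = c := hh (.inl 1)
  have hR : act h R = R' := hh (.inr 0)
  have he0 : (Pi.single (.inl (i0 h2)) 1 : Fin 2 ⊕ Fin 2 → F) = e0 := by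
    funext i; rcases i with i | i <;> fin_cases i <;> simp [e0, i0]
  refine ⟨h, P, by simp [P, i0], by rw [he0, hP], ?_⟩
  set u := uu F h2 with hu
  have huP : act u P = Q := by
    simp only [hu, P, Q, act_uu_two]; congr 1 <;> funext i <;> fin_cases i <;> simp
  have huR : act u R = P := by
    simp only [hu, P, R, act_uu_two]; congr 1 <;> funext i <;> fin_cases i <;> simp
  have hv : ∀ z, act (h * u * h⁻¹) (act h z) = act h (act u z) := fun z => by
    rw [act_mul, act_mul, act_inv_act]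
  have huc : act u c = (γ * γ) • R' := by
    simp only [hu, c, R', act_uu_two]
    funext i; rcases i with i | i <;> fin_cases i <;> simp <;> field_simp
  rw [he0, act_mul, act_mul]
  conv_lhs => rw [← hP]
  rw [hv, huP, hQ, huc, act_smul, ← hR, hv, huR, hP]

/-- Rank two, odd characteristic. -/
theorem frame_two_odd (h2 : 2 ≤ 2) (htwo : (2 : F) ≠ 0) {μ : F} (hμ : μ ≠ 0)
    (hμ2 : 1 + 2 * μ ≠ 0) :
    ∃ (h : Matrix.symplecticGroup (Fin 2) F) (w : Fin 2 ⊕ Fin 2 → F), w (.inr (i0 h2)) ≠ 0 ∧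
      act h w = Pi.single (.inl (i0 h2)) 1 ∧
      act ((h * uu F h2 * h⁻¹) * (h * uu F h2 * h⁻¹) * uu F h2 * (h * uu F h2 * h⁻¹))
        (Pi.single (.inl (i0 h2)) 1) = μ • Pi.single (.inl (i0 h2)) 1 := by
  classical
  set κ : F := μ / (2 * (1 + 2 * μ)) with hκ
  have hκ0 : κ ≠ 0 := div_ne_zero hμ (mul_ne_zero htwo hμ2)
  have hrel : 2 * κ = μ * (1 - 4 * κ) := by rw [hκ]; field_simp; ring
  set a₁ : F := -(μ * (4 - 6 * κ)) / (4 * κ) with ha₁
  let e0 : Fin 2 ⊕ Fin 2 → F := Sum.elim ![1, 0] ![0, 0]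
  let T : Fin 2 ⊕ Fin 2 → F := Sum.elim ![0, 1] ![0, 0]
  let P : Fin 2 ⊕ Fin 2 → F := Sum.elim ![0, κ] ![1, 0]
  let Q : Fin 2 ⊕ Fin 2 → F := Sum.elim ![κ, κ] ![1, -1]
  let R : Fin 2 ⊕ Fin 2 → F := Sum.elim ![1 - 2 * κ, κ - 3] ![1, 2]
  let c : Fin 2 ⊕ Fin 2 → F := Sum.elim ![0, a₁] ![-(2 * κ), 0]
  let R' : Fin 2 ⊕ Fin 2 → F := Sum.elim ![μ⁻¹ * a₁, μ⁻¹ * a₁] ![μ⁻¹ * -(2 * κ), μ⁻¹ * (2 * κ)]
  let y : Fin 2 ⊕ Fin 2 → F := Sum.elim ![1 / (2 * κ), (1 + 2 * μ) / (2 * κ)] ![0, 0]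
  have h4 : (4 : F) ≠ 0 := by
    rw [show (4 : F) = 2 * 2 by norm_num]; exact mul_ne_zero htwo htwo
  obtain ⟨h, hh⟩ := exists_sp_of_gram (Sum.elim ![P, Q] ![R, T]) (Sum.elim ![e0, c] ![R', y])
    (fun x hx => by
      have e1 := congrFun hx (.inl 0)
      have e2 := congrFun hx (.inl 1)
      have e3 := congrFun hx (.inr 0)
      have e4 := congrFun hx (.inr 1)
      simp [Matrix.mulVec, dotProduct, Fintype.sum_sum_type, Fin.sum_univ_two, T, P, Q, R] at e1 e2 e3 e4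
      funext i
      rcases i with i | i <;> fin_cases i <;> simp <;> grind)
    (fun i j => by
      rcases i with i | i <;> rcases j with j | j <;> fin_cases i <;> fin_cases j <;>
        simp [sf_elim, dotProduct, Fin.sum_univ_two, e0, T, P, Q, R, c, R', y, ha₁] <;>
        field_simp <;> grind)
  have hP : act h P = e0 := hh (.inl 0)
  have hQ : act h Q = c := hh (.inl 1)
  have hR : act h R = R' := hh (.inr 0)
  have he0 : (Pi.single (.inl (i0 h2)) 1 : Fin 2 ⊕ Fin 2 → F) = e0 := by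
    funext i; rcases i with i | i <;> fin_cases i <;> simp [e0, i0]
  refine ⟨h, P, by simp [P, i0], by rw [he0, hP], ?_⟩
  set u := uu F h2 with hu
  have huP : act u P = Q := by
    simp only [hu, P, Q, act_uu_two]; congr 1 <;> funext i <;> fin_cases i <;> simp
  have huR : act u (act u R) = P := by
    simp only [hu, P, R, act_uu_two]; congr 1 <;> funext i <;> fin_cases i <;> simp <;> ring
  have hv : ∀ z, act (h * u * h⁻¹) (act h z) = act h (act u z) := fun z => by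
    rw [act_mul, act_mul, act_inv_act]
  have huc : act u c = μ • R' := by
    simp only [hu, c, R', act_uu_two]
    funext i; rcases i with i | i <;> fin_cases i <;> simp <;> field_simp
  rw [he0, act_mul, act_mul, act_mul (h * u * h⁻¹) (h * u * h⁻¹)]
  conv_lhs => rw [← hP]
  rw [hv, huP, hQ, huc, act_smul, act_smul, ← hR, hv, hv, huR, hP]

end Cfsg.Agent.Small.Generation.SpThree
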