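import Cfsg.Agent.Lib.Small.Generation.SpThree.Props

/-!
The conjugating element in rank at least three.
-/

set_option autoImplicit false
set_option linter.unusedSectionVars false

namespace Cfsg.Agent.Small.Generation.SpThree

open Matrix PSpn
open Cfsg.Agent.Small (spHom jordanGL shiftMat)

variable {F : Type*} [Field F] {n : ℕ}

/-- The element `(0, -1; 1, 0)`. -/
def jG : Matrix.symplecticGroup (Fin n) F := ⟨Matrix.J (Fin n) F, SymplecticGroup.J_mem _ _⟩

theorem act_jG (a b : Fin n → F) :
    act (jG : Matrix.symplecticGroup (Fin n) F) (Sum.elim a b) = Sum.elim (-b) a := by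
  simp [act, jG, Matrix.J, fromBlocks_mulVec, Matrix.neg_mulVec]

/-- The vector with entries `(-1) ^ j`. -/
def alt (F : Type*) [Field F] (n : ℕ) : Fin n → F := fun j => (-1) ^ (j : ℕ)

theorem jordanT_alt (hn : 2 ≤ n) :
    (jordanGL n F : Matrix (Fin n) (Fin n) F)ᵀ *ᵥ alt F n = Pi.single (i0 hn) 1 := by
  rw [jordan_val, Matrix.transpose_add, Matrix.transpose_one, Matrix.add_mulVec, Matrix.one_mulVec]
  funext i
  rw [Pi.add_apply, shiftT_mulVec]
  rcases Nat.eq_zero_or_pos (i : ℕ) with h | h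
  · rw [if_neg (by omega), add_zero, show i = i0 hn from Fin.ext (by simpa using h), Pi.single_eq_same]
    simp [alt]
  · rw [if_pos (by omega), Pi.single_eq_of_ne (Fin.ne_of_val_ne (by simp; omega))]
    simp only [alt]
    obtain ⟨k, hk⟩ : ∃ k, (i : ℕ) = k + 1 := ⟨(i : ℕ) - 1, by omega⟩
    rw [hk, Nat.add_sub_cancel, pow_succ]
    ring

theorem jordanT_inv_mulVec {x y : Fin n → F}
    (h : (jordanGL n F : Matrix (Fin n) (Fin n) F)ᵀ *ᵥ y = x) :
    (((jordanGL n F)⁻¹ : GL (Fin n) F) : Matrix (Fin n) (Fin n) F)ᵀ *ᵥ x = y := by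
  rw [← h, Matrix.mulVec_mulVec, ← Matrix.transpose_mul, Units.mul_inv, Matrix.transpose_one,
    Matrix.one_mulVec]

theorem frame_big (hn : 2 ≤ n) (h3 : 3 ≤ n) {μ : F} (hμ : μ ≠ 0) :
    ∃ (h : Matrix.symplecticGroup (Fin n) F) (w : Fin n ⊕ Fin n → F), w (.inr (i0 hn)) ≠ 0 ∧
      act h w = Pi.single (.inl (i0 hn)) 1 ∧
      act ((h * uu F hn * h⁻¹) * uu F hn * (h * uu F hn * h⁻¹))
        (Pi.single (.inl (i0 hn)) 1) = μ • Pi.single (.inl (i0 hn)) 1 := by
  classical
  set a : Fin n := i0 hn with ha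
  set b : Fin n := ⟨1, by omega⟩ with hb
  set c : Fin n := ⟨2, by omega⟩ with hc
  have hab : a ≠ b := Fin.ne_of_val_ne (by simp [ha, hb])
  have hac : a ≠ c := Fin.ne_of_val_ne (by simp [ha, hc])
  have hbc : b ≠ c := Fin.ne_of_val_ne (by simp [hb, hc])
  set d : Fin n → F := μ⁻¹ • (Pi.single b 1 + Pi.single c 1) with hd
  set m1 : Fin n → F := Pi.single a 1 - d with hm1
  set tail : Fin n → F := fun i => if (i : ℕ) ≤ 2 then 0 else (-1) ^ (i : ℕ) with htail
  set m2 : Fin n → F := -Pi.single c 1 + Pi.single a 1 + m1 - tail with hm2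
  let M : Matrix (Fin n) (Fin n) F := Matrix.of fun i j =>
    if j = a then -((Pi.single a 1 : Fin n → F) i) else if j = b then m1 i
    else if j = c then m2 i else (Pi.single j 1 : Fin n → F) i
  have hMv : ∀ x : Fin n → F, M *ᵥ x = -(x a • Pi.single a 1) + x b • m1 + x c • m2 +
      fun i : Fin n => if (i : ℕ) ≤ 2 then 0 else x i := by
    intro x
    funext i
    simp only [Matrix.mulVec, dotProduct, M, Matrix.of_apply, Pi.add_apply, Pi.neg_apply,
      Pi.smul_apply, smul_eq_mul]
    rw [← Finset.sum_subset (Finset.subset_univ ({a, b, c} ∪ {i} : Finset (Fin n)))]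
    swap
    · intro j _ hj
      simp only [Finset.mem_union, Finset.mem_insert, Finset.mem_singleton, not_or] at hj
      rw [if_neg hj.1.1, if_neg hj.1.2.1, if_neg hj.1.2.2,
        Pi.single_eq_of_ne (Ne.symm hj.2), zero_mul]
    have hval : ∀ j : Fin n, (j = a ∨ j = b ∨ j = c) ↔ (j : ℕ) ≤ 2 := by
      intro j
      simp only [ha, hb, hc, i0, Fin.ext_iff]
      omega
    by_cases hi : (i : ℕ) ≤ 2
    · rw [show ({a, b, c} ∪ {i} : Finset (Fin n)) = {a, b, c} from
        Finset.union_eq_left.mpr (by simpa using (hval i).mpr hi), Finset.sum_insert (by simp [hab, hac]),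
        Finset.sum_insert (by simp [hbc]), Finset.sum_singleton, if_pos hi]
      simp [hab.symm, hac.symm, hbc.symm]
      ring
    · have hn' : ¬ (i = a ∨ i = b ∨ i = c) := fun h => hi ((hval i).mp h)
      simp only [not_or] at hn'
      rw [show ({a, b, c} ∪ {i} : Finset (Fin n)) = insert i {a, b, c} by ext; simp; tauto,
        Finset.sum_insert (by simpa [not_or] using hn'), Finset.sum_insert (by simp [hab, hac]),
        Finset.sum_insert (by simp [hbc]), Finset.sum_singleton, if_neg hi]
      simp [hab.symm, hac.symm, hbc.symm, hn'.1, hn'.2.1, hn'.2.2]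
      ring
  have hMinj : Function.Injective M.mulVec := by
    intro x y hxy
    have h0 : M *ᵥ (x - y) = 0 := by rw [Matrix.mulVec_sub, sub_eq_zero]; exact hxy
    refine sub_eq_zero.mp ?_
    generalize x - y = z at h0
    rw [hMv] at h0
    have h0a := congrFun h0 a
    have h0b := congrFun h0 b
    have h0c := congrFun h0 c
    simp [hm2, hm1, hd, htail, hab, hac, hbc, hab.symm, hac.symm, hbc.symm,
      show (a : ℕ) = 0 from rfl, show (b : ℕ) = 1 from rfl, show (c : ℕ) = 2 from rfl]
      at h0a h0b h0c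
    have hzc : z c = 0 := by grind
    have hzb : z b = 0 := by grind
    have hza : z a = 0 := by grind
    funext i
    by_cases hi : (i : ℕ) ≤ 2
    · have : i = a ∨ i = b ∨ i = c := by simp only [ha, hb, hc, i0, Fin.ext_iff]; omega
      rcases this with rfl | rfl | rfl <;> simp [hza, hzb, hzc]
    · have := congrFun h0 i
      simpa [hi, hza, hzb, hzc] using this
  obtain ⟨Mg, hMg⟩ := Matrix.mulVec_injective_iff_isUnit.mp hMinj
  set h : Matrix.symplecticGroup (Fin n) F := spHom n F Mg * jG with hh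
  have hact : ∀ y : Fin n → F, act h (Sum.elim (0 : Fin n → F) y) = Sum.elim (-(M *ᵥ y)) 0 := by
    intro y
    rw [hh, act_mul, act_jG, act_spHom, hMg, Matrix.mulVec_zero, Matrix.mulVec_neg]
  have hsingle : ∀ i : Fin n, (Pi.single (.inl i) 1 : Fin n ⊕ Fin n → F) =
      Sum.elim (Pi.single i 1) 0 := by
    intro i; funext j; rcases j with j | j <;> simp [Pi.single_apply]
  set u := uu F hn with hu
  set w : Fin n ⊕ Fin n → F := Sum.elim (0 : Fin n → F) (Pi.single a 1) with hw
  have hMa : M *ᵥ Pi.single a 1 = -Pi.single a 1 := by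
    rw [hMv]
    funext i
    by_cases hi : (i : ℕ) ≤ 2 <;> simp [hi, Pi.single_apply, ha, Fin.ext_iff]
    omega
  have hhw : act h w = Pi.single (.inl a) 1 := by
    rw [hw, hact, hMa, neg_neg, hsingle]
  refine ⟨h, w, by simp [hw, ha], hhw, ?_⟩
  have hl : ∀ y : Fin n → F, y (il hn) = 0 → act (sigL hn) (Sum.elim (0 : Fin n → F) y) = Sum.elim (0 : Fin n → F) y := by
    intro y hy
    rw [sigL, act_sigG]
    congr 1
    rw [zero_add]
    funext i
    simp [Matrix.mulVec, dotProduct, Matrix.single_apply, ite_and, hy]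
  have hupow : ∀ {y z : Fin n → F}, y (il hn) = 0 →
      (jordanGL n F : Matrix (Fin n) (Fin n) F)ᵀ *ᵥ z = y →
      act u (Sum.elim (0 : Fin n → F) y) = Sum.elim (0 : Fin n → F) z := by
    intro y z hy hz
    rw [hu, uu, act_mul, hl y hy, act_spHom, Matrix.mulVec_zero, jordanT_inv_mulVec hz]
  have huw : act u w = Sum.elim (0 : Fin n → F) (alt F n) :=
    hupow (Pi.single_eq_of_ne (Fin.ne_of_val_ne (by simp [ha]; omega)) _) (jordanT_alt hn)
  -- `h` sends `f₀ + f₁` to `d`, and `u` returns it to `f₀`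
  set R : Fin n ⊕ Fin n → F := Sum.elim (0 : Fin n → F) (Pi.single a 1 + Pi.single b 1) with hR
  have huR : act u R = w := by
    refine hupow ?_ ?_
    · rw [Pi.add_apply, Pi.single_eq_of_ne (Fin.ne_of_val_ne (by simp [ha]; omega)),
        Pi.single_eq_of_ne (Fin.ne_of_val_ne (by simp [hb]; omega)), add_zero]
    · rw [jordan_val, Matrix.transpose_add, Matrix.transpose_one, Matrix.add_mulVec,
        Matrix.one_mulVec]
      congr 1
      funext i
      rw [shiftT_mulVec]
      split_ifs with h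
      · simp only [Pi.single_apply, Fin.ext_iff, ha, hb, i0]; split_ifs <;> first | rfl | omega
      · rw [Pi.single_eq_of_ne]; simp only [hb, ne_eq, Fin.ext_iff]; omega
  have hhR : act h R = Sum.elim d 0 := by
    rw [hR, hact, Matrix.mulVec_add, hMa, hMv]
    congr 1
    funext i
    by_cases hi : (i : ℕ) ≤ 2 <;>
      simp [hi, hm1, hb, ha, hc, i0, Pi.single_apply, Fin.ext_iff]
    all_goals (split_ifs <;> first | omega | ring)
  have hhuw : act h (act u w) = Sum.elim (Pi.single c 1) 0 := by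
    rw [huw, hact, hMv]
    congr 1
    funext i
    by_cases hi : (i : ℕ) ≤ 2 <;>
      simp [hi, hm2, htail, alt, ha, hb, hc] <;> ring
  have huc : act u (Sum.elim (Pi.single c 1) 0) = μ • (Sum.elim d 0 : Fin n ⊕ Fin n → F) := by
    have e : μ • d = Pi.single b 1 + Pi.single c 1 := by rw [hd, smul_inv_smul₀ hμ]
    rw [hu, uu, act_mul, sigL, act_sigG, act_spHom, Matrix.mulVec_zero, add_zero, Matrix.mulVec_zero,
      jordan_val, Matrix.add_mulVec, Matrix.one_mulVec]
    funext i
    rcases i with i | i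
    · simp only [Sum.elim_inl, Pi.smul_apply]
      rw [show μ • d i = (μ • d) i from rfl, e, Pi.add_apply, Pi.add_apply, shift_mulVec,
        add_comm ((Pi.single b 1 : Fin n → F) i)]
      congr 1
      simp only [Pi.single_apply, hb, hc, Fin.ext_iff]
      split_ifs <;> first | rfl | omega
    · simp
  have hv : ∀ z, act (h * u * h⁻¹) (act h z) = act h (act u z) := fun z => by
    rw [act_mul, act_mul, act_inv_act]
  rw [act_mul, act_mul]
  conv_lhs => rw [← hhw]
  rw [hv, hhuw, huc, act_smul, ← hhR, hv, huR, hhw]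

end Cfsg.Agent.Small.Generation.SpThree
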