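import Cfsg.Agent.Lib.Small.Generation.SpThree.Binary
import Cfsg.Agent.Lib.Small.Generation.SpThree.Frame
import Cfsg.Agent.Lib.Small.Generation.TwoUnipotent.Twist

/-!
`Sp_{2n}(F)` is generated by three conjugate regular unipotent elements.
-/

set_option autoImplicit false
set_option linter.unusedSectionVars false

namespace Cfsg.Agent.Small.Generation.SpThree

open Matrix PSpn
open Cfsg.Agent.Small.Generation.TwoUnip (addSubgroup_top_of_squares)

variable {F : Type*} [Field F] {n : ℕ}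

theorem exists_omega [Fintype F] (h3 : 3 ≤ Fintype.card F) (a b : F) : ∃ ω : F, ω ≠ a ∧ ω ≠ b := by
  classical
  have hc : ({a, b} : Finset F).card < Fintype.card F := Finset.card_le_two.trans_lt (by omega)
  obtain ⟨ω, hω⟩ : ∃ ω : F, ω ∉ ({a, b} : Finset F) := by
    by_contra h
    push Not at h
    exact absurd (Finset.card_le_card (s := Finset.univ) fun x _ => h x)
      (by rw [Finset.card_univ]; omega)
  exact ⟨ω, fun h => hω (by simp [h]), fun h => hω (by simp [h])⟩

theorem htwo_of_card [Fintype F] (h : ¬ 3 ≤ Fintype.card F) (x : F) : x = 0 ∨ x = 1 := by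
  classical
  by_contra hx
  simp only [not_or] at hx
  apply h
  have h3 : ({0, 1, x} : Finset F).card = 3 := by
    rw [Finset.card_insert_of_notMem (by simp [Ne.symm hx.1]),
      Finset.card_insert_of_notMem (by simp [Ne.symm hx.2]), Finset.card_singleton]
  rw [← h3]
  exact Finset.card_le_univ _

/-- Assembly from a long root element and a scaling word. -/
theorem top_of_scaling [Fintype F] (hn : 2 ≤ n) (h3 : 3 ≤ Fintype.card F)
    {g h r : Matrix.symplecticGroup (Fin n) F} {w : Fin n ⊕ Fin n → F} {a μ : F}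
    (G : Subgroup (Matrix.symplecticGroup (Fin n) F))
    (hu : uu F hn ∈ G) (hg : g * uu F hn * g⁻¹ ∈ G) (hh : h * uu F hn * h⁻¹ ∈ G) (hr : r ∈ G)
    (ha : a ≠ 0)
    (hx : g * uu F hn * g⁻¹ * (uu F hn)⁻¹ = eich (Pi.single (.inl (i0 hn)) 1) 0 a)
    (hw : w (.inr (i0 hn)) ≠ 0) (hhw : act h w = Pi.single (.inl (i0 hn)) 1)
    (hre : act r (Pi.single (.inl (i0 hn)) 1) = μ • Pi.single (.inl (i0 hn)) 1) (hμ : μ ≠ 0)
    (hgen : ∀ x : F, x ≠ 0 → ∃ k : ℕ, (μ * μ) ^ k = x * x) : G = ⊤ := by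
  classical
  set c₀ : Fin n ⊕ Fin n → F := Pi.single (.inl (i0 hn)) 1 with hc₀
  obtain ⟨hnil, -⟩ := uu_regular (F := F) hn
  have hadd : ∀ s t : F, eich c₀ 0 s * eich c₀ 0 t = eich c₀ 0 (s + t) := by
    intro s t
    rw [eich_mul s t (sf_zero_right _) (sf_zero_right _), sf_zero_left, add_zero, add_zero]
  let H : AddSubgroup F :=
    { carrier := {t | eich c₀ 0 t ∈ G}
      zero_mem' := by
        change eich c₀ 0 (0 : F) ∈ G
        rw [eich_zero_zero]; exact one_mem G
      add_mem' := fun {s t} hs ht => by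
        change eich c₀ 0 (s + t) ∈ G
        rw [← hadd]; exact mul_mem hs ht
      neg_mem' := fun {t} ht => by
        change eich c₀ 0 (-t) ∈ G
        have : eich c₀ 0 (-t) = (eich c₀ 0 t)⁻¹ := eq_inv_of_mul_eq_one_left (by
          rw [hadd, neg_add_cancel, eich_zero_zero])
        rw [this]; exact inv_mem ht }
  have haH : a ∈ H := by
    change eich c₀ 0 a ∈ G
    rw [← hx]; exact mul_mem hg (inv_mem hu)
  have hscale : ∀ t ∈ H, μ * μ * t ∈ H := by
    intro t ht
    have h1 := mul_mem (mul_mem hr (show eich c₀ 0 t ∈ G from ht)) (inv_mem hr)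
    rw [eich_conj r t (sf_zero_right _), act_zero, hre, eich_smul t hμ (sf_zero_right _),
      smul_zero] at h1
    exact h1
  have hpow : ∀ k : ℕ, (μ * μ) ^ k * a ∈ H := by
    intro k
    induction k with
    | zero => rwa [pow_zero, one_mul]
    | succ k ih => rw [pow_succ', mul_assoc]; exact hscale _ ih
  have hT : Ctr G c₀ := by
    intro t
    have := addSubgroup_top_of_squares (H.comap (AddMonoidHom.mulRight a)) (fun x => by
      change x * x * a ∈ H
      rcases eq_or_ne x 0 with rfl | hx0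
      · simp
      · obtain ⟨k, hk⟩ := hgen x hx0
        rw [← hk]; exact hpow k) (t / a)
    change t / a * a ∈ H at this
    rwa [div_mul_cancel₀ _ ha] at this
  refine top_of_full hu hh ?_ (uu_fix hn) (uu_fixed hn) hnil ?_ hT (exists_omega h3 0 1)
  · intro h0
    have := congrFun h0 (.inl (i0 hn))
    simp at this
  · have := span_conj (h := h) (uu_span hn hnil hw)
    rwa [hhw] at this

theorem exists_three [Fintype F] (n : ℕ) (hn : 2 ≤ n) (h22 : ¬ (n = 2 ∧ Fintype.card F = 2)) :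
    ∃ u g h : Matrix.symplecticGroup (Fin n) F,
      IsNilpotent ((u : Matrix (Fin n ⊕ Fin n) (Fin n ⊕ Fin n) F) - 1) ∧
      ((u : Matrix (Fin n ⊕ Fin n) (Fin n ⊕ Fin n) F) - 1) ^ (2 * n - 1) ≠ 0 ∧
      Subgroup.closure ({u, g * u * g⁻¹, h * u * h⁻¹} :
        Set (Matrix.symplecticGroup (Fin n) F)) = ⊤ := by
  classical
  obtain ⟨γ, hγ⟩ := IsCyclic.exists_generator (α := Fˣ)
  have hgen : ∀ w : F, w ≠ 0 → ∃ k : ℕ, (γ : F) ^ k = w := by
    intro w hw
    obtain ⟨k, hk⟩ := mem_powers_iff_mem_zpowers.mpr (hγ (Units.mk0 w hw))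
    exact ⟨k, by rw [← Units.val_pow_eq_pow_val]; exact congrArg Units.val hk⟩
  obtain ⟨g, a, ha, hx⟩ : ∃ g : Matrix.symplecticGroup (Fin n) F, ∃ a : F, a ≠ 0 ∧
      g * uu F hn * g⁻¹ * (uu F hn)⁻¹ = eich (Pi.single (.inl (i0 hn)) 1) 0 a := by
    by_cases h3 : 3 ≤ n
    · exact long_three hn h3
    · obtain rfl : n = 2 := by omega
      have hc : 3 ≤ Fintype.card F := by
        have := Fintype.one_lt_card (α := F)
        by_contra h
        exact h22 ⟨rfl, by omega⟩
      obtain ⟨c, hc0, hc1⟩ := exists_omega hc (0 : F) (-1)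
      exact long_two hn hc0 fun h => hc1 (eq_neg_of_add_eq_zero_left h)
  refine ⟨uu F hn, g, ?_⟩
  by_cases hq : 3 ≤ Fintype.card F
  swap
  · have h3 : 3 ≤ n := by
      by_contra h
      have := Fintype.one_lt_card (α := F)
      exact h22 ⟨by omega, by omega⟩
    refine ⟨jG, (uu_regular hn).1, (uu_regular hn).2,
      binary (htwo_of_card hq) hn h3 _ (Subgroup.subset_closure (by simp))
        (Subgroup.subset_closure (by simp)) fun t => ?_⟩
    rcases htwo_of_card hq t with rfl | rfl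
    · rw [eich_zero_zero]; exact one_mem _
    · have h1 : a = 1 := (htwo_of_card hq a).resolve_left ha
      have := mul_mem
        (Subgroup.subset_closure (k := ({uu F hn, g * uu F hn * g⁻¹, jG * uu F hn * jG⁻¹} : Set _))
          (show g * uu F hn * g⁻¹ ∈ _ by simp))
        (inv_mem (Subgroup.subset_closure (show uu F hn ∈ _ by simp)))
      rwa [hx, h1] at this
  suffices hex : ∃ (h : Matrix.symplecticGroup (Fin n) F) (w : Fin n ⊕ Fin n → F) (μ : F)
      (r : Matrix.symplecticGroup (Fin n) F),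
      r ∈ Subgroup.closure ({uu F hn, h * uu F hn * h⁻¹} : Set _) ∧
      w (.inr (i0 hn)) ≠ 0 ∧ act h w = Pi.single (.inl (i0 hn)) 1 ∧
      act r (Pi.single (.inl (i0 hn)) 1) = μ • Pi.single (.inl (i0 hn)) 1 ∧ μ ≠ 0 ∧
      ∀ x : F, x ≠ 0 → ∃ k : ℕ, (μ * μ) ^ k = x * x by
    obtain ⟨h, w, μ, r, hr, hw, hhw, hre, hμ, hμgen⟩ := hex
    refine ⟨h, (uu_regular hn).1, (uu_regular hn).2, ?_⟩
    exact top_of_scaling (r := r) hn hq _ (Subgroup.subset_closure (by simp))
      (Subgroup.subset_closure (by simp)) (Subgroup.subset_closure (by simp))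
      (Subgroup.closure_mono (by
        intro y hy
        simp only [Set.mem_insert_iff, Set.mem_singleton_iff] at hy ⊢
        tauto) hr)
      ha hx hw hhw hre hμ hμgen
  have hsquare : ∀ {μ : F}, (∀ w : F, w ≠ 0 → ∃ k : ℕ, μ ^ k = w) →
      ∀ x : F, x ≠ 0 → ∃ k : ℕ, (μ * μ) ^ k = x * x := by
    intro μ h x hx
    obtain ⟨k, hk⟩ := h x hx
    exact ⟨k, by rw [mul_pow, hk]⟩
  by_cases h3 : 3 ≤ n
  · obtain ⟨h, w, hw, hhw, hre⟩ := frame_big hn h3 (μ := (γ : F)) γ.ne_zero
    exact ⟨h, w, γ, _, mul_mem (mul_mem (Subgroup.subset_closure (by simp))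
      (Subgroup.subset_closure (by simp))) (Subgroup.subset_closure (by simp)), hw, hhw, hre,
      γ.ne_zero, hsquare hgen⟩
  obtain rfl : n = 2 := by omega
  by_cases h2 : (2 : F) = 0
  · obtain ⟨h, w, hw, hhw, hre⟩ := frame_two_square hn γ.ne_zero
    refine ⟨h, w, (γ : F) * γ, _, mul_mem (mul_mem (Subgroup.subset_closure (by simp))
      (Subgroup.subset_closure (by simp))) (Subgroup.subset_closure (by simp)), hw, hhw, hre,
      mul_ne_zero γ.ne_zero γ.ne_zero, fun x hx => ?_⟩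
    have hF : ringChar F = 2 := by
      have hd : ringChar F ∣ 2 := ringChar.dvd (by exact_mod_cast h2)
      exact (Nat.prime_dvd_prime_iff_eq (CharP.char_is_prime F (ringChar F)) Nat.prime_two).mp hd
    obtain ⟨z, rfl⟩ := FiniteField.isSquare_of_char_two hF x
    obtain ⟨k, hk⟩ := hgen z (left_ne_zero_of_mul hx)
    exact ⟨k, by rw [mul_pow, mul_pow, hk]⟩
  obtain ⟨μ, hμ0, hμgen, hμ⟩ : ∃ μ : F, μ ≠ 0 ∧ (∀ w : F, w ≠ 0 → ∃ k : ℕ, μ ^ k = w) ∧
      1 + 2 * μ ≠ 0 := by
    by_cases h : 1 + 2 * (γ : F) = 0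
    · refine ⟨(γ : F)⁻¹, inv_ne_zero γ.ne_zero, fun w hw => ?_, fun h' => ?_⟩
      · obtain ⟨k, hk⟩ := hgen w⁻¹ (inv_ne_zero hw)
        exact ⟨k, by rw [inv_pow, hk, inv_inv]⟩
      · have hmul : (γ : F) * (γ : F)⁻¹ = 1 := mul_inv_cancel₀ γ.ne_zero
        have e1 : (γ : F) = -2 := by linear_combination (γ : F) * h' - 2 * hmul
        have e3 : (3 : F) = 0 := by linear_combination 2 * e1 - h
        obtain ⟨k, hk⟩ := hgen (-1) (by simp)
        rw [show (γ : F) = 1 by linear_combination e1 - e3, one_pow] at hk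
        exact h2 (by linear_combination hk)
    · exact ⟨γ, γ.ne_zero, hgen, h⟩
  obtain ⟨h, w, hw, hhw, hre⟩ := frame_two_odd hn h2 hμ0 hμ
  exact ⟨h, w, μ, _, mul_mem (mul_mem (mul_mem (Subgroup.subset_closure (by simp))
    (Subgroup.subset_closure (by simp))) (Subgroup.subset_closure (by simp)))
    (Subgroup.subset_closure (by simp)), hw, hhw, hre, hμ0, hsquare hμgen⟩

end Cfsg.Agent.Small.Generation.SpThree
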