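import Cfsg.Agent.Lib.Small.Generation.SpThree.Element

/-!
`u` is regular unipotent, and a commutator of `u` with a conjugate is a long root element.
-/

set_option autoImplicit false
set_option linter.unusedSectionVars false

namespace Cfsg.Agent.Small.Generation.SpThree

open Matrix PSpn
open Cfsg.Agent.Small (spHom jordanGL shiftMat shiftMat_pow_self shiftMat_pow_pred
  jordanGL_sub_one)

variable {F : Type*} [Field F]

theorem uu_regular {e : ℕ} (he2 : 2 ≤ e) :
    IsNilpotent ((uu F he2).1 - 1) ∧ ((uu F he2).1 - 1) ^ (2 * e - 1) ≠ 0 := by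
  classical
  have he : 1 ≤ e := by omega
  set l : Fin e := ⟨e - 1, by omega⟩ with hl
  set S : Matrix (Fin e) (Fin e) F := Matrix.single l l 1 with hS
  set u := uu F he2
  set A : Matrix (Fin e) (Fin e) F := (jordanGL e F : Matrix (Fin e) (Fin e) F) with hA
  set A' : Matrix (Fin e) (Fin e) F :=
    (((jordanGL e F)⁻¹ : GL (Fin e) F) : Matrix (Fin e) (Fin e) F) with hA'
  set N := shiftMat e F with hN
  have hAN : A = 1 + N := by rw [hA, hN, ← jordanGL_sub_one]; abel
  have hA'A : A' * A = 1 := (jordanGL e F).inv_mul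
  have hNA' : Commute N A' := by
    have h : Commute N A := by rw [hAN]; exact (Commute.one_right _).add_right (Commute.refl _)
    exact h.units_inv_right (u := jordanGL e F)
  have hD : (u : Matrix (Fin e ⊕ Fin e) (Fin e ⊕ Fin e) F) - 1 =
      fromBlocks N (A * S) 0 (-((A' * N)ᵀ)) := by
    have h1 : A' - 1 = -(A' * N) := by
      have : A' * N = 1 - A' := by
        conv_rhs => rw [← hA'A, hAN]
        rw [mul_add, mul_one, add_sub_cancel_left]
      rw [this]; abel
    change fromBlocks A 0 0 A'ᵀ * fromBlocks 1 S 0 1 - 1 = _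
    rw [fromBlocks_multiply, ← fromBlocks_one, sub_eq_add_neg, fromBlocks_neg, fromBlocks_add]
    simp only [mul_one, mul_zero, zero_mul, add_zero, zero_add, neg_zero]
    rw [← transpose_neg, ← h1, transpose_sub, transpose_one, ← sub_eq_add_neg, ← sub_eq_add_neg,
      hAN, add_sub_cancel_left]
  have hNe : N ^ e = 0 := shiftMat_pow_self e F
  have hMpow : ∀ k, (-((A' * N)ᵀ)) ^ k = (-1 : F) ^ k • ((A' ^ k * N ^ k)ᵀ) := by
    intro k
    rw [← neg_one_smul F ((A' * N)ᵀ), smul_pow, ← transpose_pow, hNA'.symm.mul_pow]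
  have hzero : ((u : Matrix (Fin e ⊕ Fin e) (Fin e ⊕ Fin e) F) - 1) ^ (2 * e) = 0 := by
    rw [hD, fromBlocks_upper_pow, hMpow, pow_eq_zero_of_le (by omega) hNe, mul_zero,
      transpose_zero, smul_zero, Finset.sum_eq_zero, fromBlocks_zero]
    intro i hi
    rcases Nat.lt_or_ge i e with hlt | hge
    · rw [hMpow, pow_eq_zero_of_le (show e ≤ 2 * e - 1 - i by omega) hNe, mul_zero,
        transpose_zero, smul_zero, mul_zero]
    · rw [pow_eq_zero_of_le hge hNe, zero_mul, zero_mul]
  have hne : ((u : Matrix (Fin e ⊕ Fin e) (Fin e ⊕ Fin e) F) - 1) ^ (2 * e - 1) ≠ 0 := by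
    rw [hD, fromBlocks_upper_pow]
    intro h
    have h2 : fromBlocks (N ^ (2 * e - 1))
        (∑ i ∈ Finset.range (2 * e - 1), N ^ i * (A * S) * (-((A' * N)ᵀ)) ^ (2 * e - 1 - 1 - i))
        0 ((-((A' * N)ᵀ)) ^ (2 * e - 1)) = fromBlocks 0 0 0 0 := by rw [h, fromBlocks_zero]
    have h3 := (fromBlocks_inj.mp h2).2.1
    rw [Finset.sum_eq_single (e - 1)] at h3
    · have hAk : ∀ k, A' ^ k * N ^ (e - 1) = N ^ (e - 1) := by
        intro k
        induction k with
        | zero => rw [pow_zero, one_mul]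
        | succ k ih =>
          have h4 : A * N ^ (e - 1) = N ^ (e - 1) := by
            rw [hAN, add_mul, one_mul, ← pow_succ', Nat.sub_add_cancel he, hNe, add_zero]
          have h5 : A' * N ^ (e - 1) = N ^ (e - 1) := by
            conv_lhs => rw [← h4, ← mul_assoc, hA'A, one_mul]
          rw [pow_succ, mul_assoc, h5, ih]
      have h6 : N ^ (e - 1) * A = N ^ (e - 1) := by
        rw [hAN, mul_add, mul_one, ← pow_succ, Nat.sub_add_cancel he, hNe, add_zero]
      rw [show 2 * e - 1 - 1 - (e - 1) = e - 1 by omega, hMpow, hAk, ← mul_assoc, h6, hN,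
        shiftMat_pow_pred e he, hS, ← hl, Matrix.single_mul_single_same, Matrix.transpose_single,
        Matrix.mul_smul, Matrix.single_mul_single_same, one_mul, one_mul] at h3
      have := congrFun (congrFun h3 ⟨0, he⟩) ⟨0, he⟩
      simp at this
    · intro i hi hie
      rw [Finset.mem_range] at hi
      rcases Nat.lt_or_ge i (e - 1) with hlt | hge
      · rw [hMpow, pow_eq_zero_of_le (show e ≤ 2 * e - 1 - 1 - i by omega) hNe, mul_zero,
          transpose_zero, smul_zero, mul_zero]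
      · rw [pow_eq_zero_of_le (show e ≤ i by omega) hNe, zero_mul, zero_mul]
    · intro h'
      exact absurd (Finset.mem_range.mpr (by omega)) h'
  exact ⟨⟨_, hzero⟩, hne⟩

variable {n : ℕ}

theorem sf_e0 (hn : 2 ≤ n) (a b : Fin n → F) :
    sf (Pi.single (.inl (i0 hn)) 1 : Fin n ⊕ Fin n → F) (Sum.elim a b) = -b (i0 hn) := by
  simp [sf, Cfsg.Agent.Lead.Symp.form_eq, Pi.single_apply]

theorem single_inl_eq (i : Fin n) (k : F) :
    k • (Pi.single (.inl i) 1 : Fin n ⊕ Fin n → F) = Sum.elim (Pi.single i k) 0 := by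
  funext j; rcases j with j | j <;> simp [Pi.single_apply]

theorem elim_add (a b a' b' : Fin n → F) :
    (Sum.elim a b : Fin n ⊕ Fin n → F) + Sum.elim a' b' = Sum.elim (a + a') (b + b') := by
  funext j; rcases j with j | j <;> rfl

theorem eq_of_act_elim {g h : Matrix.symplecticGroup (Fin n) F}
    (hgh : ∀ a b, act g (Sum.elim a b) = act h (Sum.elim a b)) : g = h :=
  eq_of_act fun x => by
    rw [← Sum.elim_comp_inl_inr x]
    exact hgh _ _

/-- The entries of a symmetric matrix with `A X Aᵀ = X + E₀₀`. -/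
def xcoef (F : Type*) [Field F] : ℕ → ℕ → F
  | 1, 1 => 1
  | 0, 2 => -1
  | 2, 0 => -1
  | _, _ => 0

theorem long_three (hn : 2 ≤ n) (h3 : 3 ≤ n) :
    ∃ g : Matrix.symplecticGroup (Fin n) F, ∃ a : F, a ≠ 0 ∧
      g * uu F hn * g⁻¹ * (uu F hn)⁻¹ = eich (Pi.single (.inl (i0 hn)) 1) 0 a := by
  classical
  set X : Matrix (Fin n) (Fin n) F := Matrix.of fun i j => xcoef F i j with hX
  have hXs : Xᵀ = X := by
    ext i j
    simp only [hX, Matrix.transpose_apply, Matrix.of_apply]
    obtain ⟨i, hi⟩ := i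
    obtain ⟨j, hj⟩ := j
    rcases i with _ | _ | _ | i <;> rcases j with _ | _ | _ | j <;> simp [xcoef]
  have hzero : ∀ i j, n ≤ i ∨ n ≤ j → xcoef F i j = 0 := by
    intro i j h
    rcases i with _ | _ | _ | i <;> rcases j with _ | _ | _ | j <;>
      first | rfl | (exfalso; omega)
  have hNX : ∀ i j : Fin n, (shiftMat n F * X) i j = xcoef F ((i : ℕ) + 1) j := by
    intro i j
    change (shiftMat n F *ᵥ fun k => X k j) i = _
    rw [shift_mulVec]
    split_ifs with h
    · rfl
    · exact (hzero _ _ (Or.inl (by omega))).symm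
  have hXN : ∀ (Y : Matrix (Fin n) (Fin n) F) (f : ℕ → ℕ → F),
      (∀ i j : Fin n, Y i j = f i j) → (∀ i : Fin n, f i n = 0) →
      ∀ i j : Fin n, (Y * (shiftMat n F)ᵀ) i j = f i ((j : ℕ) + 1) := by
    intro Y f hY hf i j
    rw [Matrix.mul_apply]
    have : ∀ k, Y i k * (shiftMat n F)ᵀ k j = shiftMat n F j k * Y i k := fun k => mul_comm _ _
    simp only [this]
    change (shiftMat n F *ᵥ fun k => Y i k) j = _
    rw [shift_mulVec]
    split_ifs with h
    · exact hY _ _
    · rw [show (j : ℕ) + 1 = n by omega, hf]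
  have hAXA : (jordanGL n F : Matrix (Fin n) (Fin n) F) * X *
      (jordanGL n F : Matrix (Fin n) (Fin n) F)ᵀ = X + Matrix.single (i0 hn) (i0 hn) 1 := by
    ext i j
    rw [jordan_val, Matrix.transpose_add, Matrix.transpose_one, add_mul, one_mul, add_mul, mul_add,
      mul_add, mul_one, mul_one, Matrix.add_apply, Matrix.add_apply, Matrix.add_apply,
      hXN X (xcoef F) (fun _ _ => rfl) (fun _ => hzero _ _ (Or.inr le_rfl)),
      hXN _ (fun i j => xcoef F (i + 1) j) hNX (fun _ => hzero _ _ (Or.inr le_rfl)), hNX,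
      Matrix.add_apply, hX, Matrix.of_apply, Matrix.single_apply]
    obtain ⟨i, hi⟩ := i
    obtain ⟨j, hj⟩ := j
    rcases i with _ | _ | _ | i <;> rcases j with _ | _ | _ | j <;>
      simp [xcoef, i0, Fin.ext_iff]
  refine ⟨sigG X hXs, 1, one_ne_zero, ?_⟩
  rw [mul_inv_eq_iff_eq_mul, mul_inv_eq_iff_eq_mul]
  refine eq_of_act_elim fun a b => ?_
  rw [act_mul, act_mul, act_mul, uu, act_mul, act_mul, sigL, act_sigG, act_spHom, act_sigG,
    act_sigG, act_sigG, act_spHom, act_eich_zero, sf_e0, single_inl_eq, elim_add, add_zero]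
  congr 1
  set y := (((jordanGL n F)⁻¹ : GL (Fin n) F) : Matrix (Fin n) (Fin n) F)ᵀ *ᵥ b with hy
  have hb : b = (jordanGL n F : Matrix (Fin n) (Fin n) F)ᵀ *ᵥ y := by
    rw [hy, Matrix.mulVec_mulVec, Cfsg.Agent.Small.gl_transpose_inv, Matrix.one_mulVec]
  have h1 : (jordanGL n F : Matrix (Fin n) (Fin n) F) *ᵥ (X *ᵥ b) =
      X *ᵥ y + Pi.single (i0 hn) (y (i0 hn)) := by
    rw [hb, Matrix.mulVec_mulVec, Matrix.mulVec_mulVec, hAXA, Matrix.add_mulVec]
    congr 1
    funext i
    simp [Matrix.mulVec, dotProduct, Matrix.single_apply, Pi.single_apply, eq_comm, ite_and]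
  rw [Matrix.mulVec_add, Matrix.mulVec_add, Matrix.mulVec_add, h1, one_mul, Pi.single_neg]
  abel

/-- The action of `u` in rank two. -/
theorem act_uu_two (h : 2 ≤ 2) (a b : Fin 2 → F) :
    act (uu F h) (Sum.elim a b) = Sum.elim ![a 0 + a 1 + b 1, a 1 + b 1] ![b 0, b 1 - b 0] := by
  have hinv : (((jordanGL 2 F)⁻¹ : GL (Fin 2) F) : Matrix (Fin 2) (Fin 2) F) =
      1 - shiftMat 2 F := by
    refine Units.inv_eq_of_mul_eq_one_right ?_
    rw [jordan_val, add_mul, one_mul, mul_sub, mul_one, ← pow_two, shiftMat_pow_self, sub_zero,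
      sub_add_cancel]
  have hN : shiftMat 2 F = !![0, 1; 0, 0] := by
    ext i j; fin_cases i <;> fin_cases j <;> simp [shiftMat]
  have hA : (1 : Matrix (Fin 2) (Fin 2) F) + !![0, 1; 0, 0] = !![1, 1; 0, 1] := by
    ext i j; fin_cases i <;> fin_cases j <;> simp
  have hA' : (1 : Matrix (Fin 2) (Fin 2) F) - !![0, 1; 0, 0] = !![1, -1; 0, 1] := by
    ext i j; fin_cases i <;> fin_cases j <;> simp
  have hS : Matrix.single (il h) (il h) (1 : F) = !![0, 0; 0, 1] := by
    ext i j; fin_cases i <;> fin_cases j <;> simp [il, Matrix.single]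
  rw [uu, act_mul, sigL, act_sigG, act_spHom, hinv, jordan_val, hN, hA, hA', hS]
  congr 1 <;> funext i <;> fin_cases i <;>
    simp [Matrix.mulVec, dotProduct, Fin.sum_univ_two] <;> ring

theorem long_two (h : 2 ≤ 2) {c : F} (hc : c ≠ 0) (hc1 : c + 1 ≠ 0) :
    ∃ g : Matrix.symplecticGroup (Fin 2) F, ∃ a : F, a ≠ 0 ∧
      g * uu F h * g⁻¹ * (uu F h)⁻¹ = eich (Pi.single (.inl (i0 h)) 1) 0 a := by
  classical
  let C : GL (Fin 2) F :=
    ⟨!![1, c; 0, 1], !![1, -c; 0, 1], by simp [← Matrix.one_fin_two],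
      by simp [← Matrix.one_fin_two]⟩
  refine ⟨sigG (Matrix.single 1 1 c) (Matrix.transpose_single _ _ _) * spHom 2 F C,
    -(c * (c + 1)), neg_ne_zero.mpr (mul_ne_zero hc hc1), ?_⟩
  rw [mul_inv_eq_iff_eq_mul, mul_inv_eq_iff_eq_mul]
  refine eq_of_act_elim fun a b => ?_
  simp only [act_mul, act_uu_two, act_spHom, act_sigG, act_eich_zero, sf_e0, single_inl_eq,
    elim_add, add_zero]
  congr 1 <;> funext i <;> fin_cases i <;>
    simp [C, Matrix.mulVec, dotProduct, Fin.sum_univ_two, i0] <;> ring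

end Cfsg.Agent.Small.Generation.SpThree
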